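import Cfsg.Agent.H905.DCTypes
import Cfsg.Agent.Nodes.RGDTwE6
import Cfsg.Agent.H392.TD.Count_m3
import Cfsg.Agent.H905.MdH_m3
import Cfsg.Agent.ChevalleyStructure.SL2Hom
import Cfsg.Agent.OddHalf.NI.Mult.Torus
import Cfsg.Agent.H64.CrossChev
import Cfsg.Agent.H742.PanU_m3
import Cfsg.Agent.H905.MdR
import Cfsg.Agent.H218.SdFin
import Cfsg.Agent.H906.Cover_m3
import Cfsg.Agent.SM.Ti.Box
import Cfsg.Agent.H59.CrossTw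
import Cfsg.Agent.S1062
import Cfsg.Agent.S1063
import Cfsg.Agent.S1064
import Cfsg.Agent.S1065
import Cfsg.Agent.S1066
import Cfsg.Agent.FastGrp
import Cfsg.Agent.Prune
set_option linter.all false

section
prune_inst 0x7ffcfff9abb9bfffffff7e7ffedcdffff9bc9fffe6dffdfb7fe8e9efabdf330089e5fb8defe010ff1ec2e29410b87843fb7eceffe86bdc7ffffd5ff45ffbee5fe5f7bd0831d68c3e0f3c6ff783f0778e7f3fffffffffffffffffffffffffffbeffffffffffff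

-- part: H2/Ppd/Weyl
section
prune_inst 0x3000654464000000081800123200002436000192002008017161054208cff761a0472101fef00e1351d6aee43879c00813100079423800002a008a00411801a0842b74a2933c1d0c310087c0f887180c00000000000000000000000000041000000000000
set_option linter.all false
open scoped Cfsg.Agent.FastGrp
private noncomputable def lq26aa79e2a5 {T : Sort _} (f :
    type_of% (@_root_.Matrix.vecCons.{0}) →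
    type_of% (@_root_.Matrix.vecEmpty.{0}) →
    type_of% (@_root_.List.cons.{0} (Fin (Nat.succ 0).succ.succ.succ.succ.succ.succ.succ → Int)) →
    type_of% (@_root_.List.cons.{0}) →
    type_of% (@_root_.List.cons.{0} (Fin (Nat.succ 0).succ.succ.succ.succ.succ.succ → Int)) →
    type_of% (@_root_.List.cons.{0} (Fin (Nat.succ 0).succ.succ.succ → Int)) →
    type_of% (@_root_.List.nil.{0}) → T) : T :=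
  f (@_root_.Matrix.vecCons.{0}) (@_root_.Matrix.vecEmpty.{0}) (@_root_.List.cons.{0} (Fin (Nat.succ 0).succ.succ.succ.succ.succ.succ.succ → Int)) (@_root_.List.cons.{0}) (@_root_.List.cons.{0} (Fin (Nat.succ 0).succ.succ.succ.succ.succ.succ → Int)) (@_root_.List.cons.{0} (Fin (Nat.succ 0).succ.succ.succ → Int)) (@_root_.List.nil.{0})

/-!
# Indices of parabolic subgroups and orbits, exceptional types (helper2)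

* `chn A v0 L` : the vectors of `L` (newest first) are different and obtained from `v0` by firings;
* `exists_of_chn` : then they are the functionals `co cs h i w`;
* `index_ge` : `|L| ≤ |W : W_J|`, `i ∉ J`;
* `index_E6 : 24 ≤`, `index_E7 : 36 ≤`, `index_E8 : 60 ≤`, `index_F4 : 24 ≤`, `index_F4' : 96 ≤` (`1 ∉ J`);
* `LF` : the orbit of type `0` of `F₄`, 24 vectors.
-/

set_option autoImplicit false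
set_option linter.unusedSectionVars false
set_option linter.style.longLine false

namespace Cfsg.Agent.H2.Ppd

open CoxeterSystem Cfsg.Agent.ChevalleyStructure.CoxeterGeom Cfsg.Agent.Tits.Roots Cfsg.Agent.Tits.Core
  Cfsg.Agent.H905.DC

/-- equality test -/
def eqv {l : ℕ} (u v : Fin l → ℤ) : Bool := (List.finRange l).all fun k => u k == v k

theorem eqv_iff {l : ℕ} {u v : Fin l → ℤ} : eqv u v = true ↔ u = v := by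
  unfold eqv
  rw [List.all_eq_true]
  constructor
  · intro h
    funext k
    exact beq_iff_eq.1 (h k (List.mem_finRange k))
  · rintro rfl k _
    exact beq_self_eq_true _

/-- the test for a list of firings -/
def chn {l : ℕ} (A : Fin l → Fin l → ℤ) (v0 : Fin l → ℤ) : List (Fin l → ℤ) → Bool
  | [] => true
  | v :: L => (eqv v v0 || L.any fun u => (List.finRange l).any fun j => eqv v (fire A u j)) &&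
      (L.all fun u => !(eqv v u)) && chn A v0 L

section

variable {l : ℕ} {W : Type*} [Group W] {M : CoxeterMatrix (Fin l)} (cs : CoxeterSystem M W)
  {A : Fin l → Fin l → ℤ} (h : IsCartan M A)

theorem exists_of_chn {i : Fin l} {L : List (Fin l → ℤ)} (hL : chn A (Pi.single i 1) L = true) :
    (∀ v ∈ L, ∃ w, co cs h i w = v) ∧ L.Nodup := by
  induction L with
  | nil => exact ⟨fun v hv => absurd hv List.not_mem_nil, List.nodup_nil⟩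
  | cons v L ih =>
    unfold chn at hL
    rw [Bool.and_eq_true, Bool.and_eq_true, Bool.or_eq_true] at hL
    obtain ⟨⟨h1, h2⟩, h3⟩ := hL
    obtain ⟨h4, h5⟩ := ih h3
    refine ⟨fun u hu => ?_, ?_⟩
    · rcases List.mem_cons.1 hu with rfl | hu
      · rcases h1 with h1 | h1
        · refine ⟨1, ?_⟩
          rw [co_one, eqv_iff.1 h1]
          rfl
        · obtain ⟨u', hu', h6⟩ := List.any_eq_true.1 h1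
          obtain ⟨j, -, h7⟩ := List.any_eq_true.1 h6
          obtain ⟨w, hw⟩ := h4 u' hu'
          exact ⟨w * cs.simple j, by rw [co_mul_simple, hw, eqv_iff.1 h7]⟩
      · exact h4 u hu
    · rw [List.nodup_cons]
      refine ⟨fun hv => ?_, h5⟩
      have h6 := List.all_eq_true.1 h2 v hv
      have h7 : eqv v v = true := eqv_iff.2 rfl
      rw [h7] at h6
      exact absurd h6 (by decide)

include h in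
/-- **the index** -/
theorem index_ge [Finite W] {J : Set (Fin l)} {i : Fin l} (hi : i ∉ J) (L : List (Fin l → ℤ))
    (hL : chn A (Pi.single i 1) L = true) : L.length ≤ (WJ cs J).index := by
  obtain ⟨h1, h2⟩ := exists_of_chn cs h hL
  choose w hw using fun k : Fin L.length => h1 (L.get k) (List.get_mem L k)
  have h3 := card_le_index cs h hi (ι := Fin L.length) w (by
    intro a b hab
    have hab' : L.get a = L.get b := by rw [← hw a, ← hw b]; exact hab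
    exact List.nodup_iff_injective_get.1 h2 hab')
  rwa [Nat.card_eq_fintype_card, Fintype.card_fin] at h3

end

theorem index_E6 {W : Type*} [Group W] [Finite W] (cs : CoxeterSystem CoxeterMatrix.E₆ W) {J : Set (Fin 6)} {i : Fin 6} (hi : i ∉ J) :
    24 ≤ (WJ cs J).index := by
  fin_cases i
  · exact index_ge cs isCartan_cE6 hi (beta% delta% lq26aa79e2a5 fun a b _ d _ _ h =>
 (d (a 0<|a (-1)<|a (-1)<|a 1<|a 0<|a 0<|b)<|d (a 0<|a 1<|a (-1)<|a 0<|a 0<|a 0<|b)<|d (a (-1)<|a (-1)<|a 1<|a 0<|a 0<|a 0<|b)<|d (a 1<|a (-1)<|a 0<|a 0<|a 0<|a 0<|b)<|d (a (-1)<|a 1<|a 1<|a (-1)<|a 0<|a 0<|b)<|d (a 1<|a 1<|a 0<|a (-1)<|a 0<|a 0<|b)<|d (a (-1)<|a 0<|a 0<|a 1<|a (-1)<|a 0<|b)<|d (a 1<|a 0<|a (-1)<|a 1<|a (-1)<|a 0<|b)<|d (a (-1)<|a 0<|a 0<|a 0<|a 1<|a (-1)<|b)<|d (a 0<|a 0<|a 1<|a 0<|a (-1)<|a 0<|b)<|d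 (a 1<|a 0<|a (-1)<|a 0<|a 1<|a (-1)<|b)<|d (a (-1)<|a 0<|a 0<|a 0<|a 0<|a 1<|b)<|d (a 0<|a 0<|a 1<|a (-1)<|a 1<|a (-1)<|b)<|d (a 1<|a 0<|a (-1)<|a 0<|a 0<|a 1<|b)<|d (a 0<|a (-1)<|a 0<|a 1<|a 0<|a (-1)<|b)<|d (a 0<|a 0<|a 1<|a (-1)<|a 0<|a 1<|b)<|d (a 0<|a 1<|a 0<|a 0<|a 0<|a (-1)<|b)<|d (a 0<|a (-1)<|a 0<|a 1<|a (-1)<|a 1<|b)<|d (a 0<|a 1<|a 0<|a 0<|a (-1)<|a 1<|b)<|d (a 0<|a (-1)<|a 0<|a 0<|a 1<|a 0<|b)<|d (a 0<|a 1<|a 0<|a (-1)<|a 1<|a 0<|b)<|d (a 0<|a 0<|a (-1)<|a 1<|a 0<|a 0<|b)<|d (a (-1)<|a 0<|a 1<|a 0<|a 0<|a 0<|b)<|d (a 1<|a 0<|a 0<|a 0<|a 0<|a 0<|b)<|h)) (by decide +kernel)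
  · exact index_ge cs isCartan_cE6 hi (beta% delta% lq26aa79e2a5 fun a b _ d _ _ h =>
 (d (a (-1)<|a 1<|a 1<|a 0<|a (-1)<|a 0<|b)<|d (a 0<|a 1<|a (-1)<|a 0<|a 1<|a (-1)<|b)<|d (a (-1)<|a (-1)<|a 1<|a 0<|a 1<|a (-1)<|b)<|d (a 0<|a (-1)<|a (-1)<|a 1<|a 0<|a 1<|b)<|d (a 1<|a 1<|a 0<|a 0<|a (-1)<|a 0<|b)<|d (a 1<|a (-1)<|a 0<|a 0<|a 1<|a (-1)<|b)<|d (a (-1)<|a 1<|a 1<|a (-1)<|a 1<|a (-1)<|b)<|d (a 0<|a 1<|a (-1)<|a 0<|a 0<|a 1<|b)<|d (a (-1)<|a (-1)<|a 1<|a 0<|a 0<|a 1<|b)<|d (a 1<|a 1<|a 0<|a (-1)<|a 1<|a (-1)<|b)<|d (a 1<|a (-1)<|a 0<|a 0<|a 0<|a 1<|b)<|d (a (-1)<|a 0<|a 0<|a 1<|a 0<|a (-1)<|b)<|d (a (-1)<|a 1<|a 1<|a (-1)<|a 0<|a 1<|b)<|d (a 1<|a 0<|a (-1)<|a 1<|a 0<|a (-1)<|b)<|d (a 1<|a 1<|a 0<|a (-1)<|a 0<|a 1<|b)<|d (a (-1)<|a 0<|a 0<|a 1<|a (-1)<|a 1<|b)<|d (a 0<|a 0<|a 1<|a 0<|a 0<|a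 (-1)<|b)<|d (a 1<|a 0<|a (-1)<|a 1<|a (-1)<|a 1<|b)<|d (a (-1)<|a 0<|a 0<|a 0<|a 1<|a 0<|b)<|d (a 0<|a 0<|a 1<|a 0<|a (-1)<|a 1<|b)<|d (a 1<|a 0<|a (-1)<|a 0<|a 1<|a 0<|b)<|d (a 0<|a 0<|a 1<|a (-1)<|a 1<|a 0<|b)<|d (a 0<|a (-1)<|a 0<|a 1<|a 0<|a 0<|b)<|d (a 0<|a 1<|a 0<|a 0<|a 0<|a 0<|b)<|h)) (by decide +kernel)
  · exact index_ge cs isCartan_cE6 hi (beta% delta% lq26aa79e2a5 fun a b _ d _ _ h =>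
 (d (a 0<|a 1<|a (-1)<|a 1<|a 0<|a (-1)<|b)<|d (a 0<|a 2<|a 0<|a (-1)<|a 0<|a 1<|b)<|d (a (-1)<|a (-1)<|a 1<|a 1<|a 0<|a (-1)<|b)<|d (a (-1)<|a 0<|a 2<|a (-1)<|a 0<|a 1<|b)<|d (a 0<|a (-1)<|a (-1)<|a 2<|a (-1)<|a 1<|b)<|d (a 0<|a 0<|a 0<|a (-1)<|a 2<|a 0<|b)<|d (a 1<|a (-1)<|a 0<|a 1<|a 0<|a (-1)<|b)<|d (a 1<|a 0<|a 1<|a (-1)<|a 0<|a 1<|b)<|d (a (-1)<|a 1<|a 1<|a 0<|a 0<|a (-1)<|b)<|d (a 0<|a 1<|a (-1)<|a 1<|a (-1)<|a 1<|b)<|d (a (-1)<|a (-1)<|a 1<|a 1<|a (-1)<|a 1<|b)<|d (a 0<|a (-1)<|a (-1)<|a 1<|a 1<|a 0<|b)<|d (a 1<|a 1<|a 0<|a 0<|a 0<|a (-1)<|b)<|d (a 1<|a (-1)<|a 0<|a 1<|a (-1)<|a 1<|b)<|d (a (-1)<|a 1<|a 1<|a 0<|a (-1)<|a 1<|b)<|d (a 0<|a 1<|a (-1)<|a 0<|a 1<|a 0<|b)<|d (a (-1)<|a (-1)<|a 1<|a 0<|a 1<|a 0<|b)<|d (a 1<|a 1<|a 0<|a 0<|a (-1)<|a 1<|b)<|d (a 1<|a (-1)<|a 0<|a 0<|a 1<|a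 0<|b)<|d (a (-1)<|a 1<|a 1<|a (-1)<|a 1<|a 0<|b)<|d (a 1<|a 1<|a 0<|a (-1)<|a 1<|a 0<|b)<|d (a (-1)<|a 0<|a 0<|a 1<|a 0<|a 0<|b)<|d (a 1<|a 0<|a (-1)<|a 1<|a 0<|a 0<|b)<|d (a 0<|a 0<|a 1<|a 0<|a 0<|a 0<|b)<|h)) (by decide +kernel)
  · exact index_ge cs isCartan_cE6 hi (beta% delta% lq26aa79e2a5 fun a b _ d _ _ h =>
 (d (a 2<|a 0<|a (-2)<|a 1<|a 0<|a 1<|b)<|d (a 1<|a (-1)<|a (-1)<|a 2<|a 0<|a (-1)<|b)<|d (a 1<|a 1<|a 1<|a (-2)<|a 1<|a 1<|b)<|d (a 1<|a 0<|a 0<|a 1<|a (-2)<|a 2<|b)<|d (a (-1)<|a (-1)<|a 0<|a 2<|a (-1)<|a 1<|b)<|d (a (-1)<|a 0<|a 1<|a (-1)<|a 2<|a 0<|b)<|d (a 1<|a 1<|a (-1)<|a 1<|a 0<|a (-1)<|b)<|d (a 1<|a 2<|a 0<|a (-1)<|a 0<|a 1<|b)<|d (a (-1)<|a 1<|a 0<|a 1<|a (-1)<|a 1<|b)<|d (a 0<|a (-1)<|a 1<|a 1<|a 0<|a (-1)<|b)<|d (a 0<|a 0<|a 2<|a (-1)<|a 0<|a 1<|b)<|d (a 1<|a (-1)<|a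 (-1)<|a 2<|a (-1)<|a 1<|b)<|d (a 1<|a 0<|a 0<|a (-1)<|a 2<|a 0<|b)<|d (a (-1)<|a (-1)<|a 0<|a 1<|a 1<|a 0<|b)<|d (a 0<|a 1<|a 1<|a 0<|a 0<|a (-1)<|b)<|d (a 1<|a 1<|a (-1)<|a 1<|a (-1)<|a 1<|b)<|d (a (-1)<|a 1<|a 0<|a 0<|a 1<|a 0<|b)<|d (a 0<|a (-1)<|a 1<|a 1<|a (-1)<|a 1<|b)<|d (a 1<|a (-1)<|a (-1)<|a 1<|a 1<|a 0<|b)<|d (a 0<|a 1<|a 1<|a 0<|a (-1)<|a 1<|b)<|d (a 1<|a 1<|a (-1)<|a 0<|a 1<|a 0<|b)<|d (a 0<|a (-1)<|a 1<|a 0<|a 1<|a 0<|b)<|d (a 0<|a 1<|a 1<|a (-1)<|a 1<|a 0<|b)<|d (a 0<|a 0<|a 0<|a 1<|a 0<|a 0<|b)<|h)) (by decide +kernel)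
  · exact index_ge cs isCartan_cE6 hi (beta% delta% lq26aa79e2a5 fun a b _ d _ _ h =>
 (d (a 0<|a 0<|a 2<|a (-1)<|a 0<|a 0<|b)<|d (a 1<|a (-1)<|a (-1)<|a 2<|a (-1)<|a 0<|b)<|d (a 1<|a 0<|a 0<|a (-1)<|a 2<|a (-1)<|b)<|d (a 1<|a 0<|a 0<|a 0<|a (-1)<|a 2<|b)<|d (a (-1)<|a (-1)<|a 0<|a 1<|a 1<|a (-1)<|b)<|d (a (-1)<|a 0<|a 1<|a (-1)<|a 1<|a 1<|b)<|d (a 1<|a 1<|a (-1)<|a 1<|a (-1)<|a 0<|b)<|d (a (-1)<|a 1<|a 0<|a 0<|a 1<|a (-1)<|b)<|d (a 0<|a (-1)<|a 1<|a 1<|a (-1)<|a 0<|b)<|d (a 1<|a (-1)<|a (-1)<|a 1<|a 1<|a (-1)<|b)<|d (a 1<|a 0<|a 0<|a (-1)<|a 1<|a 1<|b)<|d (a (-1)<|a (-1)<|a 0<|a 1<|a 0<|a 1<|b)<|d (a 0<|a 1<|a 1<|a 0<|a (-1)<|a 0<|b)<|d (a 1<|a 1<|a (-1)<|a 0<|a 1<|a (-1)<|b)<|d (a (-1)<|a 1<|a 0<|a 0<|a 0<|a 1<|b)<|d (a 0<|a (-1)<|a 1<|a 0<|a 1<|a (-1)<|b)<|d (a 1<|a (-1)<|a (-1)<|a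 1<|a 0<|a 1<|b)<|d (a 0<|a 1<|a 1<|a (-1)<|a 1<|a (-1)<|b)<|d (a 1<|a 1<|a (-1)<|a 0<|a 0<|a 1<|b)<|d (a 0<|a (-1)<|a 1<|a 0<|a 0<|a 1<|b)<|d (a 0<|a 0<|a 0<|a 1<|a 0<|a (-1)<|b)<|d (a 0<|a 1<|a 1<|a (-1)<|a 0<|a 1<|b)<|d (a 0<|a 0<|a 0<|a 1<|a (-1)<|a 1<|b)<|d (a 0<|a 0<|a 0<|a 0<|a 1<|a 0<|b)<|h)) (by decide +kernel)
  · exact index_ge cs isCartan_cE6 hi (beta% delta% lq26aa79e2a5 fun a b _ d _ _ h =>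
 (d (a 0<|a (-1)<|a 0<|a 1<|a (-1)<|a 0<|b)<|d (a 0<|a 1<|a 0<|a 0<|a (-1)<|a 0<|b)<|d (a 0<|a (-1)<|a 0<|a 0<|a 1<|a (-1)<|b)<|d (a 0<|a 1<|a 0<|a (-1)<|a 1<|a (-1)<|b)<|d (a 0<|a (-1)<|a 0<|a 0<|a 0<|a 1<|b)<|d (a 0<|a 0<|a (-1)<|a 1<|a 0<|a (-1)<|b)<|d (a 0<|a 1<|a 0<|a (-1)<|a 0<|a 1<|b)<|d (a (-1)<|a 0<|a 1<|a 0<|a 0<|a (-1)<|b)<|d (a 0<|a 0<|a (-1)<|a 1<|a (-1)<|a 1<|b)<|d (a 1<|a 0<|a 0<|a 0<|a 0<|a (-1)<|b)<|d (a (-1)<|a 0<|a 1<|a 0<|a (-1)<|a 1<|b)<|d (a 0<|a 0<|a (-1)<|a 0<|a 1<|a 0<|b)<|d (a 1<|a 0<|a 0<|a 0<|a (-1)<|a 1<|b)<|d (a (-1)<|a 0<|a 1<|a (-1)<|a 1<|a 0<|b)<|d (a 1<|a 0<|a 0<|a (-1)<|a 1<|a 0<|b)<|d (a (-1)<|a (-1)<|a 0<|a 1<|a 0<|a 0<|b)<|d (a (-1)<|a 1<|a 0<|a 0<|a 0<|a 0<|b)<|d (a 1<|a (-1)<|a (-1)<|a 1<|a 0<|a 0<|b)<|d (a 1<|a 1<|a (-1)<|a 0<|a 0<|a 0<|b)<|d (a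 0<|a (-1)<|a 1<|a 0<|a 0<|a 0<|b)<|d (a 0<|a 1<|a 1<|a (-1)<|a 0<|a 0<|b)<|d (a 0<|a 0<|a 0<|a 1<|a (-1)<|a 0<|b)<|d (a 0<|a 0<|a 0<|a 0<|a 1<|a (-1)<|b)<|d (a 0<|a 0<|a 0<|a 0<|a 0<|a 1<|b)<|h)) (by decide +kernel)

theorem index_E7 {W : Type*} [Group W] [Finite W] (cs : CoxeterSystem CoxeterMatrix.E₇ W) {J : Set (Fin 7)} {i : Fin 7} (hi : i ∉ J) :
    36 ≤ (WJ cs J).index := by
  fin_cases i
  · exact index_ge cs isCartan_cE7 hi (beta% delta% lq26aa79e2a5 fun a b _ d f _ h =>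
 (let e:=(let e:=(let e:=(f (a 0<|a (-1)<|a 0<|a 0<|a 1<|a 0<|a 0<|b)<|f (a 0<|a 1<|a 0<|a (-1)<|a 1<|a 0<|a 0<|b)<|f (a 0<|a 0<|a (-1)<|a 1<|a 0<|a 0<|a 0<|b)<|f (a (-1)<|a 0<|a 1<|a 0<|a 0<|a 0<|a 0<|b)<|f (a 1<|a 0<|a 0<|a 0<|a 0<|a 0<|a 0<|b)<|h);
 (f (a 0<|a 0<|a 1<|a (-1)<|a 0<|a 1<|a 0<|b)<|f (a 0<|a 1<|a 0<|a 0<|a 0<|a (-1)<|a 1<|b)<|f (a 0<|a (-1)<|a 0<|a 1<|a (-1)<|a 1<|a 0<|b)<|f (a 0<|a 1<|a 0<|a 0<|a (-1)<|a 1<|a 0<|b)<|e));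
 (let e:=(f (a 0<|a (-1)<|a 0<|a 1<|a 0<|a 0<|a (-1)<|b)<|f (a 0<|a 0<|a 1<|a (-1)<|a 1<|a (-1)<|a 1<|b)<|f (a 1<|a 0<|a (-1)<|a 0<|a 0<|a 1<|a 0<|b)<|f (a 0<|a 1<|a 0<|a 0<|a 0<|a 0<|a (-1)<|b)<|f (a 0<|a (-1)<|a 0<|a 1<|a 0<|a (-1)<|a 1<|b)<|e);
 (f (a 0<|a 0<|a 1<|a (-1)<|a 1<|a 0<|a (-1)<|b)<|f (a 0<|a 0<|a 1<|a 0<|a (-1)<|a 0<|a 1<|b)<|f (a 1<|a 0<|a (-1)<|a 0<|a 1<|a (-1)<|a 1<|b)<|f (a (-1)<|a 0<|a 0<|a 0<|a 0<|a 1<|a 0<|b)<|e)));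
 (let e:=(let e:=(f (a (-1)<|a 0<|a 0<|a 1<|a (-1)<|a 0<|a 1<|b)<|f (a 0<|a 0<|a 1<|a 0<|a (-1)<|a 1<|a (-1)<|b)<|f (a 1<|a 0<|a (-1)<|a 0<|a 1<|a 0<|a (-1)<|b)<|f (a 1<|a 0<|a (-1)<|a 1<|a (-1)<|a 0<|a 1<|b)<|f (a (-1)<|a 0<|a 0<|a 0<|a 1<|a (-1)<|a 1<|b)<|e);
 (f (a 0<|a 0<|a 1<|a 0<|a 0<|a (-1)<|a 0<|b)<|f (a 1<|a 0<|a (-1)<|a 1<|a (-1)<|a 1<|a (-1)<|b)<|f (a 1<|a 1<|a 0<|a (-1)<|a 0<|a 0<|a 1<|b)<|f (a (-1)<|a 0<|a 0<|a 0<|a 1<|a 0<|a (-1)<|b)<|e));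
 (let e:=(f (a 1<|a 0<|a (-1)<|a 1<|a 0<|a (-1)<|a 0<|b)<|f (a 1<|a 1<|a 0<|a (-1)<|a 0<|a 1<|a (-1)<|b)<|f (a 1<|a (-1)<|a 0<|a 0<|a 0<|a 0<|a 1<|b)<|f (a (-1)<|a 0<|a 0<|a 1<|a (-1)<|a 1<|a (-1)<|b)<|f (a (-1)<|a 1<|a 1<|a (-1)<|a 0<|a 0<|a 1<|b)<|e);
 (d (a (-1)<|a 0<|a 0<|a 1<|a 0<|a (-1)<|a 0<|b)<|d (a (-1)<|a 1<|a 1<|a (-1)<|a 0<|a 1<|a (-1)<|b)<|d (a 0<|a 1<|a (-1)<|a 0<|a 0<|a 0<|a 1<|b)<|d (a (-1)<|a (-1)<|a 1<|a 0<|a 0<|a 0<|a 1<|b)<|e))))) (by decide +kernel)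
  · exact index_ge cs isCartan_cE7 hi (beta% delta% lq26aa79e2a5 fun a b _ d f _ h =>
 (let e:=(let e:=(let e:=(f (a 0<|a 0<|a 1<|a 0<|a (-1)<|a 1<|a 0<|b)<|f (a 1<|a 0<|a (-1)<|a 0<|a 1<|a 0<|a 0<|b)<|f (a 0<|a 0<|a 1<|a (-1)<|a 1<|a 0<|a 0<|b)<|f (a 0<|a (-1)<|a 0<|a 1<|a 0<|a 0<|a 0<|b)<|f (a 0<|a 1<|a 0<|a 0<|a 0<|a 0<|a 0<|b)<|h);
 (f (a (-1)<|a 0<|a 0<|a 1<|a (-1)<|a 1<|a 0<|b)<|f (a 0<|a 0<|a 1<|a 0<|a 0<|a (-1)<|a 1<|b)<|f (a 1<|a 0<|a (-1)<|a 1<|a (-1)<|a 1<|a 0<|b)<|f (a (-1)<|a 0<|a 0<|a 0<|a 1<|a 0<|a 0<|b)<|e));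
 (let e:=(f (a (-1)<|a 0<|a 0<|a 1<|a 0<|a (-1)<|a 1<|b)<|f (a (-1)<|a 1<|a 1<|a (-1)<|a 0<|a 1<|a 0<|b)<|f (a 0<|a 0<|a 1<|a 0<|a 0<|a 0<|a (-1)<|b)<|f (a 1<|a 0<|a (-1)<|a 1<|a 0<|a (-1)<|a 1<|b)<|f (a 1<|a 1<|a 0<|a (-1)<|a 0<|a 1<|a 0<|b)<|e);
 (f (a (-1)<|a (-1)<|a 1<|a 0<|a 0<|a 1<|a 0<|b)<|f (a 1<|a 0<|a (-1)<|a 1<|a 0<|a 0<|a (-1)<|b)<|f (a 1<|a 1<|a 0<|a (-1)<|a 1<|a (-1)<|a 1<|b)<|f (a 1<|a (-1)<|a 0<|a 0<|a 0<|a 1<|a 0<|b)<|e)));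
 (let e:=(let e:=(f (a 1<|a 1<|a 0<|a 0<|a (-1)<|a 0<|a 1<|b)<|f (a 1<|a (-1)<|a 0<|a 0<|a 1<|a (-1)<|a 1<|b)<|f (a (-1)<|a 0<|a 0<|a 1<|a 0<|a 0<|a (-1)<|b)<|f (a (-1)<|a 1<|a 1<|a (-1)<|a 1<|a (-1)<|a 1<|b)<|f (a 0<|a 1<|a (-1)<|a 0<|a 0<|a 1<|a 0<|b)<|e);
 (f (a 0<|a 1<|a (-1)<|a 0<|a 1<|a (-1)<|a 1<|b)<|f (a (-1)<|a (-1)<|a 1<|a 0<|a 1<|a (-1)<|a 1<|b)<|f (a 0<|a (-1)<|a (-1)<|a 1<|a 0<|a 1<|a 0<|b)<|f (a 1<|a 1<|a 0<|a (-1)<|a 1<|a 0<|a (-1)<|b)<|e));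
 (let e:=(f (a 1<|a 1<|a 0<|a 0<|a (-1)<|a 1<|a (-1)<|b)<|f (a 1<|a (-1)<|a 0<|a 0<|a 1<|a 0<|a (-1)<|b)<|f (a 1<|a (-1)<|a 0<|a 1<|a (-1)<|a 0<|a 1<|b)<|f (a (-1)<|a 1<|a 1<|a (-1)<|a 1<|a 0<|a (-1)<|b)<|f (a (-1)<|a 1<|a 1<|a 0<|a (-1)<|a 0<|a 1<|b)<|e);
 (d (a (-1)<|a (-1)<|a 1<|a 0<|a 1<|a 0<|a (-1)<|b)<|d (a (-1)<|a (-1)<|a 1<|a 1<|a (-1)<|a 0<|a 1<|b)<|d (a 0<|a (-1)<|a (-1)<|a 1<|a 1<|a (-1)<|a 1<|b)<|d (a 0<|a 0<|a 0<|a (-1)<|a 1<|a 1<|a 0<|b)<|e))))) (by decide +kernel)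
  · exact index_ge cs isCartan_cE7 hi (beta% delta% lq26aa79e2a5 fun a b _ d f _ h =>
 (let e:=(let e:=(let e:=(f (a (-1)<|a 1<|a 1<|a (-1)<|a 1<|a 0<|a 0<|b)<|f (a 1<|a 1<|a 0<|a (-1)<|a 1<|a 0<|a 0<|b)<|f (a (-1)<|a 0<|a 0<|a 1<|a 0<|a 0<|a 0<|b)<|f (a 1<|a 0<|a (-1)<|a 1<|a 0<|a 0<|a 0<|b)<|f (a 0<|a 0<|a 1<|a 0<|a 0<|a 0<|a 0<|b)<|h);
 (f (a 0<|a 1<|a (-1)<|a 0<|a 1<|a 0<|a 0<|b)<|f (a (-1)<|a (-1)<|a 1<|a 0<|a 1<|a 0<|a 0<|b)<|f (a 1<|a 1<|a 0<|a 0<|a (-1)<|a 1<|a 0<|b)<|f (a 1<|a (-1)<|a 0<|a 0<|a 1<|a 0<|a 0<|b)<|e));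
 (let e:=(f (a (-1)<|a (-1)<|a 1<|a 1<|a (-1)<|a 1<|a 0<|b)<|f (a 0<|a (-1)<|a (-1)<|a 1<|a 1<|a 0<|a 0<|b)<|f (a 1<|a 1<|a 0<|a 0<|a 0<|a (-1)<|a 1<|b)<|f (a 1<|a (-1)<|a 0<|a 1<|a (-1)<|a 1<|a 0<|b)<|f (a (-1)<|a 1<|a 1<|a 0<|a (-1)<|a 1<|a 0<|b)<|e);
 (f (a 1<|a (-1)<|a 0<|a 1<|a 0<|a (-1)<|a 1<|b)<|f (a 1<|a 0<|a 1<|a (-1)<|a 0<|a 1<|a 0<|b)<|f (a (-1)<|a 1<|a 1<|a 0<|a 0<|a (-1)<|a 1<|b)<|f (a 0<|a 1<|a (-1)<|a 1<|a (-1)<|a 1<|a 0<|b)<|e)));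
 (let e:=(let e:=(f (a (-1)<|a (-1)<|a 1<|a 1<|a 0<|a (-1)<|a 1<|b)<|f (a (-1)<|a 0<|a 2<|a (-1)<|a 0<|a 1<|a 0<|b)<|f (a 0<|a (-1)<|a (-1)<|a 2<|a (-1)<|a 1<|a 0<|b)<|f (a 0<|a 0<|a 0<|a (-1)<|a 2<|a 0<|a 0<|b)<|f (a 1<|a 1<|a 0<|a 0<|a 0<|a 0<|a (-1)<|b)<|e);
 (f (a 2<|a 0<|a (-1)<|a 0<|a 0<|a 1<|a 0<|b)<|f (a (-1)<|a 1<|a 1<|a 0<|a 0<|a 0<|a (-1)<|b)<|f (a 0<|a 1<|a (-1)<|a 1<|a 0<|a (-1)<|a 1<|b)<|f (a 0<|a 2<|a 0<|a (-1)<|a 0<|a 1<|a 0<|b)<|e));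
 (let e:=(f (a 0<|a (-1)<|a (-1)<|a 2<|a 0<|a (-1)<|a 1<|b)<|f (a 0<|a 1<|a 1<|a (-2)<|a 1<|a 1<|a 0<|b)<|f (a 0<|a 0<|a 0<|a 1<|a (-2)<|a 2<|a 0<|b)<|f (a 1<|a (-1)<|a 0<|a 1<|a 0<|a 0<|a (-1)<|b)<|f (a 1<|a 0<|a 1<|a (-1)<|a 1<|a (-1)<|a 1<|b)<|e);
 (d (a 0<|a (-2)<|a 0<|a 1<|a 0<|a 1<|a 0<|b)<|d (a (-1)<|a (-1)<|a 1<|a 1<|a 0<|a 0<|a (-1)<|b)<|d (a (-1)<|a 0<|a 2<|a (-1)<|a 1<|a (-1)<|a 1<|b)<|d (a 1<|a 0<|a (-2)<|a 1<|a 0<|a 1<|a 0<|b)<|e))))) (by decide +kernel)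
  · exact index_ge cs isCartan_cE7 hi (beta% delta% lq26aa79e2a5 fun a b _ d f _ h =>
 (let e:=(let e:=(let e:=(f (a 0<|a 1<|a 1<|a 0<|a (-1)<|a 1<|a 0<|b)<|f (a 1<|a 1<|a (-1)<|a 0<|a 1<|a 0<|a 0<|b)<|f (a 0<|a (-1)<|a 1<|a 0<|a 1<|a 0<|a 0<|b)<|f (a 0<|a 1<|a 1<|a (-1)<|a 1<|a 0<|a 0<|b)<|f (a 0<|a 0<|a 0<|a 1<|a 0<|a 0<|a 0<|b)<|h);
 (f (a 1<|a 1<|a (-1)<|a 1<|a (-1)<|a 1<|a 0<|b)<|f (a (-1)<|a 1<|a 0<|a 0<|a 1<|a 0<|a 0<|b)<|f (a 0<|a (-1)<|a 1<|a 1<|a (-1)<|a 1<|a 0<|b)<|f (a 1<|a (-1)<|a (-1)<|a 1<|a 1<|a 0<|a 0<|b)<|e));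
 (let e:=(f (a 0<|a 0<|a 2<|a (-1)<|a 0<|a 1<|a 0<|b)<|f (a 1<|a (-1)<|a (-1)<|a 2<|a (-1)<|a 1<|a 0<|b)<|f (a 1<|a 0<|a 0<|a (-1)<|a 2<|a 0<|a 0<|b)<|f (a (-1)<|a (-1)<|a 0<|a 1<|a 1<|a 0<|a 0<|b)<|f (a 0<|a 1<|a 1<|a 0<|a 0<|a (-1)<|a 1<|b)<|e);
 (f (a 1<|a 1<|a (-1)<|a 1<|a 0<|a (-1)<|a 1<|b)<|f (a 1<|a 2<|a 0<|a (-1)<|a 0<|a 1<|a 0<|b)<|f (a (-1)<|a 1<|a 0<|a 1<|a (-1)<|a 1<|a 0<|b)<|f (a 0<|a (-1)<|a 1<|a 1<|a 0<|a (-1)<|a 1<|b)<|e)));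
 (let e:=(let e:=(f (a 1<|a 1<|a 1<|a (-2)<|a 1<|a 1<|a 0<|b)<|f (a 1<|a 0<|a 0<|a 1<|a (-2)<|a 2<|a 0<|b)<|f (a (-1)<|a (-1)<|a 0<|a 2<|a (-1)<|a 1<|a 0<|b)<|f (a (-1)<|a 0<|a 1<|a (-1)<|a 2<|a 0<|a 0<|b)<|f (a 0<|a 1<|a 1<|a 0<|a 0<|a 0<|a (-1)<|b)<|e);
 (f (a 0<|a (-1)<|a 1<|a 1<|a 0<|a 0<|a (-1)<|b)<|f (a 0<|a 0<|a 2<|a (-1)<|a 1<|a (-1)<|a 1<|b)<|f (a 2<|a 0<|a (-2)<|a 1<|a 0<|a 1<|a 0<|b)<|f (a 1<|a (-1)<|a (-1)<|a 2<|a 0<|a (-1)<|a 1<|b)<|e));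
 (let e:=(f (a 1<|a 1<|a (-1)<|a 1<|a 0<|a 0<|a (-1)<|b)<|f (a 1<|a 2<|a 0<|a (-1)<|a 1<|a (-1)<|a 1<|b)<|f (a 1<|a (-2)<|a 0<|a 1<|a 0<|a 1<|a 0<|b)<|f (a (-1)<|a 1<|a 0<|a 1<|a 0<|a (-1)<|a 1<|b)<|f (a (-1)<|a 2<|a 1<|a (-1)<|a 0<|a 1<|a 0<|b)<|e);
 (d (a (-1)<|a (-1)<|a 0<|a 2<|a 0<|a (-1)<|a 1<|b)<|d (a (-1)<|a 1<|a 2<|a (-2)<|a 1<|a 1<|a 0<|b)<|d (a (-1)<|a 0<|a 1<|a 1<|a (-2)<|a 2<|a 0<|b)<|d (a 0<|a 0<|a (-1)<|a 0<|a 2<|a 0<|a 0<|b)<|e))))) (by decide +kernel)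
  · exact index_ge cs isCartan_cE7 hi (beta% delta% lq26aa79e2a5 fun a b _ d f _ h =>
 (let e:=(let e:=(let e:=(f (a 0<|a (-1)<|a 1<|a 0<|a 0<|a 1<|a 0<|b)<|f (a 0<|a 0<|a 0<|a 1<|a 0<|a (-1)<|a 1<|b)<|f (a 0<|a 1<|a 1<|a (-1)<|a 0<|a 1<|a 0<|b)<|f (a 0<|a 0<|a 0<|a 1<|a (-1)<|a 1<|a 0<|b)<|f (a 0<|a 0<|a 0<|a 0<|a 1<|a 0<|a 0<|b)<|h);
 (f (a 1<|a (-1)<|a (-1)<|a 1<|a 0<|a 1<|a 0<|b)<|f (a 0<|a 0<|a 0<|a 1<|a 0<|a 0<|a (-1)<|b)<|f (a 0<|a 1<|a 1<|a (-1)<|a 1<|a (-1)<|a 1<|b)<|f (a 1<|a 1<|a (-1)<|a 0<|a 0<|a 1<|a 0<|b)<|e));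
 (let e:=(f (a 0<|a 1<|a 1<|a (-1)<|a 1<|a 0<|a (-1)<|b)<|f (a 0<|a 1<|a 1<|a 0<|a (-1)<|a 0<|a 1<|b)<|f (a 1<|a 1<|a (-1)<|a 0<|a 1<|a (-1)<|a 1<|b)<|f (a (-1)<|a 1<|a 0<|a 0<|a 0<|a 1<|a 0<|b)<|f (a 0<|a (-1)<|a 1<|a 0<|a 1<|a (-1)<|a 1<|b)<|e);
 (f (a 0<|a (-1)<|a 1<|a 1<|a (-1)<|a 0<|a 1<|b)<|f (a 1<|a (-1)<|a (-1)<|a 1<|a 1<|a (-1)<|a 1<|b)<|f (a 1<|a 0<|a 0<|a (-1)<|a 1<|a 1<|a 0<|b)<|f (a (-1)<|a (-1)<|a 0<|a 1<|a 0<|a 1<|a 0<|b)<|e)));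
 (let e:=(let e:=(f (a 0<|a 1<|a 1<|a 0<|a (-1)<|a 1<|a (-1)<|b)<|f (a 1<|a 1<|a (-1)<|a 0<|a 1<|a 0<|a (-1)<|b)<|f (a 1<|a 1<|a (-1)<|a 1<|a (-1)<|a 0<|a 1<|b)<|f (a (-1)<|a 1<|a 0<|a 0<|a 1<|a (-1)<|a 1<|b)<|f (a 0<|a (-1)<|a 1<|a 0<|a 1<|a 0<|a (-1)<|b)<|e);
 (f (a 1<|a 0<|a 0<|a (-1)<|a 2<|a (-1)<|a 1<|b)<|f (a 1<|a 0<|a 0<|a 0<|a (-1)<|a 2<|a 0<|b)<|f (a (-1)<|a (-1)<|a 0<|a 1<|a 1<|a (-1)<|a 1<|b)<|f (a (-1)<|a 0<|a 1<|a (-1)<|a 1<|a 1<|a 0<|b)<|e));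
 (let e:=(f (a (-1)<|a 1<|a 0<|a 1<|a (-1)<|a 0<|a 1<|b)<|f (a 0<|a (-1)<|a 1<|a 1<|a (-1)<|a 1<|a (-1)<|b)<|f (a 0<|a 0<|a 2<|a (-1)<|a 0<|a 0<|a 1<|b)<|f (a 1<|a (-1)<|a (-1)<|a 1<|a 1<|a 0<|a (-1)<|b)<|f (a 1<|a (-1)<|a (-1)<|a 2<|a (-1)<|a 0<|a 1<|b)<|e);
 (d (a 0<|a 1<|a 1<|a 0<|a 0<|a (-1)<|a 0<|b)<|d (a 1<|a 1<|a (-1)<|a 1<|a (-1)<|a 1<|a (-1)<|b)<|d (a 1<|a 2<|a 0<|a (-1)<|a 0<|a 0<|a 1<|b)<|d (a (-1)<|a 1<|a 0<|a 0<|a 1<|a 0<|a (-1)<|b)<|e))))) (by decide +kernel)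
  · exact index_ge cs isCartan_cE7 hi (beta% delta% lq26aa79e2a5 fun a b _ d f _ h =>
 (let e:=(let e:=(let e:=(f (a 0<|a 1<|a 1<|a (-1)<|a 0<|a 0<|a 1<|b)<|f (a 0<|a 0<|a 0<|a 0<|a 1<|a 0<|a (-1)<|b)<|f (a 0<|a 0<|a 0<|a 1<|a (-1)<|a 0<|a 1<|b)<|f (a 0<|a 0<|a 0<|a 0<|a 1<|a (-1)<|a 1<|b)<|f (a 0<|a 0<|a 0<|a 0<|a 0<|a 1<|a 0<|b)<|h);
 (f (a 0<|a 1<|a 1<|a (-1)<|a 0<|a 1<|a (-1)<|b)<|f (a 1<|a 1<|a (-1)<|a 0<|a 0<|a 0<|a 1<|b)<|f (a 0<|a (-1)<|a 1<|a 0<|a 0<|a 0<|a 1<|b)<|f (a 0<|a 0<|a 0<|a 1<|a (-1)<|a 1<|a (-1)<|b)<|e));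
 (let e:=(f (a 1<|a 1<|a (-1)<|a 0<|a 0<|a 1<|a (-1)<|b)<|f (a (-1)<|a 1<|a 0<|a 0<|a 0<|a 0<|a 1<|b)<|f (a 0<|a (-1)<|a 1<|a 0<|a 0<|a 1<|a (-1)<|b)<|f (a 1<|a (-1)<|a (-1)<|a 1<|a 0<|a 0<|a 1<|b)<|f (a 0<|a 0<|a 0<|a 1<|a 0<|a (-1)<|a 0<|b)<|e);
 (f (a 1<|a (-1)<|a (-1)<|a 1<|a 0<|a 1<|a (-1)<|b)<|f (a 1<|a 0<|a 0<|a (-1)<|a 1<|a 0<|a 1<|b)<|f (a (-1)<|a (-1)<|a 0<|a 1<|a 0<|a 0<|a 1<|b)<|f (a 0<|a 1<|a 1<|a (-1)<|a 1<|a (-1)<|a 0<|b)<|e)));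
 (let e:=(let e:=(f (a (-1)<|a 0<|a 1<|a (-1)<|a 1<|a 0<|a 1<|b)<|f (a 0<|a 1<|a 1<|a 0<|a (-1)<|a 0<|a 0<|b)<|f (a 1<|a 1<|a (-1)<|a 0<|a 1<|a (-1)<|a 0<|b)<|f (a (-1)<|a 1<|a 0<|a 0<|a 0<|a 1<|a (-1)<|b)<|f (a 0<|a (-1)<|a 1<|a 0<|a 1<|a (-1)<|a 0<|b)<|e);
 (f (a 1<|a (-1)<|a (-1)<|a 1<|a 1<|a (-1)<|a 0<|b)<|f (a 1<|a 0<|a 0<|a (-1)<|a 1<|a 1<|a (-1)<|b)<|f (a 1<|a 0<|a 0<|a 0<|a (-1)<|a 1<|a 1<|b)<|f (a (-1)<|a (-1)<|a 0<|a 1<|a 0<|a 1<|a (-1)<|b)<|e));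
 (let e:=(f (a (-1)<|a 0<|a 1<|a 0<|a (-1)<|a 1<|a 1<|b)<|f (a 0<|a 0<|a (-1)<|a 0<|a 1<|a 0<|a 1<|b)<|f (a 1<|a 1<|a (-1)<|a 1<|a (-1)<|a 0<|a 0<|b)<|f (a (-1)<|a 1<|a 0<|a 0<|a 1<|a (-1)<|a 0<|b)<|f (a 0<|a (-1)<|a 1<|a 1<|a (-1)<|a 0<|a 0<|b)<|e);
 (d (a 1<|a 0<|a 0<|a 0<|a (-1)<|a 2<|a (-1)<|b)<|d (a 1<|a 0<|a 0<|a 0<|a 0<|a (-1)<|a 2<|b)<|d (a (-1)<|a (-1)<|a 0<|a 1<|a 1<|a (-1)<|a 0<|b)<|d (a (-1)<|a 0<|a 1<|a (-1)<|a 1<|a 1<|a (-1)<|b)<|e))))) (by decide +kernel)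
  · exact index_ge cs isCartan_cE7 hi (beta% delta% lq26aa79e2a5 fun a b _ d f _ h =>
 (let e:=(let e:=(let e:=(f (a 0<|a 1<|a 1<|a (-1)<|a 0<|a 0<|a 0<|b)<|f (a 0<|a 0<|a 0<|a 1<|a (-1)<|a 0<|a 0<|b)<|f (a 0<|a 0<|a 0<|a 0<|a 1<|a (-1)<|a 0<|b)<|f (a 0<|a 0<|a 0<|a 0<|a 0<|a 1<|a (-1)<|b)<|f (a 0<|a 0<|a 0<|a 0<|a 0<|a 0<|a 1<|b)<|h);
 (f (a (-1)<|a 1<|a 0<|a 0<|a 0<|a 0<|a 0<|b)<|f (a 1<|a (-1)<|a (-1)<|a 1<|a 0<|a 0<|a 0<|b)<|f (a 1<|a 1<|a (-1)<|a 0<|a 0<|a 0<|a 0<|b)<|f (a 0<|a (-1)<|a 1<|a 0<|a 0<|a 0<|a 0<|b)<|e));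
 (let e:=(f (a 0<|a 0<|a (-1)<|a 0<|a 1<|a 0<|a 0<|b)<|f (a 1<|a 0<|a 0<|a 0<|a (-1)<|a 1<|a 0<|b)<|f (a (-1)<|a 0<|a 1<|a (-1)<|a 1<|a 0<|a 0<|b)<|f (a 1<|a 0<|a 0<|a (-1)<|a 1<|a 0<|a 0<|b)<|f (a (-1)<|a (-1)<|a 0<|a 1<|a 0<|a 0<|a 0<|b)<|e);
 (f (a (-1)<|a 0<|a 1<|a 0<|a 0<|a (-1)<|a 1<|b)<|f (a 0<|a 0<|a (-1)<|a 1<|a (-1)<|a 1<|a 0<|b)<|f (a 1<|a 0<|a 0<|a 0<|a 0<|a (-1)<|a 1<|b)<|f (a (-1)<|a 0<|a 1<|a 0<|a (-1)<|a 1<|a 0<|b)<|e)));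
 (let e:=(let e:=(f (a 0<|a (-1)<|a 0<|a 0<|a 0<|a 1<|a 0<|b)<|f (a (-1)<|a 0<|a 1<|a 0<|a 0<|a 0<|a (-1)<|b)<|f (a 0<|a 0<|a (-1)<|a 1<|a 0<|a (-1)<|a 1<|b)<|f (a 0<|a 1<|a 0<|a (-1)<|a 0<|a 1<|a 0<|b)<|f (a 1<|a 0<|a 0<|a 0<|a 0<|a 0<|a (-1)<|b)<|e);
 (f (a 0<|a 1<|a 0<|a 0<|a (-1)<|a 0<|a 1<|b)<|f (a 0<|a (-1)<|a 0<|a 0<|a 1<|a (-1)<|a 1<|b)<|f (a 0<|a 0<|a (-1)<|a 1<|a 0<|a 0<|a (-1)<|b)<|f (a 0<|a 1<|a 0<|a (-1)<|a 1<|a (-1)<|a 1<|b)<|e));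
 (let e:=(f (a 0<|a 0<|a 1<|a (-1)<|a 0<|a 0<|a 1<|b)<|f (a 0<|a 1<|a 0<|a 0<|a (-1)<|a 1<|a (-1)<|b)<|f (a 0<|a (-1)<|a 0<|a 0<|a 1<|a 0<|a (-1)<|b)<|f (a 0<|a (-1)<|a 0<|a 1<|a (-1)<|a 0<|a 1<|b)<|f (a 0<|a 1<|a 0<|a (-1)<|a 1<|a 0<|a (-1)<|b)<|e);
 (d (a 0<|a 0<|a 1<|a (-1)<|a 0<|a 1<|a (-1)<|b)<|d (a 1<|a 0<|a (-1)<|a 0<|a 0<|a 0<|a 1<|b)<|d (a 0<|a 1<|a 0<|a 0<|a 0<|a (-1)<|a 0<|b)<|d (a 0<|a (-1)<|a 0<|a 1<|a (-1)<|a 1<|a (-1)<|b)<|e))))) (by decide +kernel)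

theorem index_E8 {W : Type*} [Group W] [Finite W] (cs : CoxeterSystem CoxeterMatrix.E₈ W) {J : Set (Fin 8)} {i : Fin 8} (hi : i ∉ J) :
    60 ≤ (WJ cs J).index := by
  fin_cases i
  · exact index_ge cs isCartan_cE8 hi (beta% delta% lq26aa79e2a5 fun a b c d _ _ h =>
 (let e:=(let e:=(let e:=(let e:=(c (a 0<|a 1<|a 0<|a (-1)<|a 1<|a 0<|a 0<|a 0<|b)<|c (a 0<|a 0<|a (-1)<|a 1<|a 0<|a 0<|a 0<|a 0<|b)<|c (a (-1)<|a 0<|a 1<|a 0<|a 0<|a 0<|a 0<|a 0<|b)<|c (a 1<|a 0<|a 0<|a 0<|a 0<|a 0<|a 0<|a 0<|b)<|h);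
 (c (a 0<|a 1<|a 0<|a 0<|a 0<|a (-1)<|a 1<|a 0<|b)<|c (a 0<|a (-1)<|a 0<|a 1<|a (-1)<|a 1<|a 0<|a 0<|b)<|c (a 0<|a 1<|a 0<|a 0<|a (-1)<|a 1<|a 0<|a 0<|b)<|c (a 0<|a (-1)<|a 0<|a 0<|a 1<|a 0<|a 0<|a 0<|b)<|e));
 (c (a 0<|a 1<|a 0<|a 0<|a 0<|a 0<|a 0<|a (-1)<|b)<|c (a 0<|a (-1)<|a 0<|a 1<|a 0<|a 0<|a (-1)<|a 1<|b)<|c (a 0<|a 0<|a 1<|a (-1)<|a 1<|a (-1)<|a 1<|a 0<|b)<|c (a 1<|a 0<|a (-1)<|a 0<|a 0<|a 1<|a 0<|a 0<|b)<|c (a 0<|a 1<|a 0<|a 0<|a 0<|a 0<|a (-1)<|a 1<|b)<|c (a 0<|a (-1)<|a 0<|a 1<|a 0<|a (-1)<|a 1<|a 0<|b)<|c (a 0<|a 0<|a 1<|a (-1)<|a 0<|a 1<|a 0<|a 0<|b)<|e));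
 (let e:=(let e:=(c (a 0<|a 0<|a 1<|a (-1)<|a 1<|a 0<|a (-1)<|a 1<|b)<|c (a 0<|a 0<|a 1<|a 0<|a (-1)<|a 0<|a 1<|a 0<|b)<|c (a 1<|a 0<|a (-1)<|a 0<|a 1<|a (-1)<|a 1<|a 0<|b)<|c (a (-1)<|a 0<|a 0<|a 0<|a 0<|a 1<|a 0<|a 0<|b)<|e);
 (c (a 1<|a 0<|a (-1)<|a 0<|a 1<|a 0<|a (-1)<|a 1<|b)<|c (a 1<|a 0<|a (-1)<|a 1<|a (-1)<|a 0<|a 1<|a 0<|b)<|c (a (-1)<|a 0<|a 0<|a 0<|a 1<|a (-1)<|a 1<|a 0<|b)<|c (a 0<|a (-1)<|a 0<|a 1<|a 0<|a 0<|a 0<|a (-1)<|b)<|e));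
 (c (a 1<|a 0<|a (-1)<|a 0<|a 1<|a 0<|a 0<|a (-1)<|b)<|c (a 1<|a 0<|a (-1)<|a 1<|a (-1)<|a 1<|a (-1)<|a 1<|b)<|c (a 1<|a 1<|a 0<|a (-1)<|a 0<|a 0<|a 1<|a 0<|b)<|c (a (-1)<|a 0<|a 0<|a 0<|a 1<|a 0<|a (-1)<|a 1<|b)<|c (a (-1)<|a 0<|a 0<|a 1<|a (-1)<|a 0<|a 1<|a 0<|b)<|c (a 0<|a 0<|a 1<|a (-1)<|a 1<|a 0<|a 0<|a (-1)<|b)<|c (a 0<|a 0<|a 1<|a 0<|a (-1)<|a 1<|a (-1)<|a 1<|b)<|e)));
 (let e:=(let e:=(let e:=(c (a (-1)<|a 0<|a 0<|a 1<|a (-1)<|a 1<|a (-1)<|a 1<|b)<|c (a (-1)<|a 1<|a 1<|a (-1)<|a 0<|a 0<|a 1<|a 0<|b)<|c (a 0<|a 0<|a 1<|a 0<|a (-1)<|a 1<|a 0<|a (-1)<|b)<|c (a 0<|a 0<|a 1<|a 0<|a 0<|a (-1)<|a 0<|a 1<|b)<|e);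
 (c (a 1<|a 0<|a (-1)<|a 1<|a 0<|a (-1)<|a 0<|a 1<|b)<|c (a 1<|a 1<|a 0<|a (-1)<|a 0<|a 1<|a (-1)<|a 1<|b)<|c (a 1<|a (-1)<|a 0<|a 0<|a 0<|a 0<|a 1<|a 0<|b)<|c (a (-1)<|a 0<|a 0<|a 0<|a 1<|a 0<|a 0<|a (-1)<|b)<|e));
 (c (a (-1)<|a 0<|a 0<|a 1<|a (-1)<|a 1<|a 0<|a (-1)<|b)<|c (a (-1)<|a 0<|a 0<|a 1<|a 0<|a (-1)<|a 0<|a 1<|b)<|c (a (-1)<|a 1<|a 1<|a (-1)<|a 0<|a 1<|a (-1)<|a 1<|b)<|c (a 0<|a 1<|a (-1)<|a 0<|a 0<|a 0<|a 1<|a 0<|b)<|c (a (-1)<|a (-1)<|a 1<|a 0<|a 0<|a 0<|a 1<|a 0<|b)<|c (a 0<|a 0<|a 1<|a 0<|a 0<|a (-1)<|a 1<|a (-1)<|b)<|c (a 1<|a 0<|a (-1)<|a 1<|a (-1)<|a 1<|a 0<|a (-1)<|b)<|e));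
 (let e:=(let e:=(c (a 1<|a 0<|a (-1)<|a 1<|a 0<|a (-1)<|a 1<|a (-1)<|b)<|c (a 1<|a 1<|a 0<|a (-1)<|a 0<|a 1<|a 0<|a (-1)<|b)<|c (a 1<|a 1<|a 0<|a (-1)<|a 1<|a (-1)<|a 0<|a 1<|b)<|c (a 1<|a (-1)<|a 0<|a 0<|a 0<|a 1<|a (-1)<|a 1<|b)<|e);
 (c (a 0<|a 1<|a (-1)<|a 0<|a 0<|a 1<|a (-1)<|a 1<|b)<|c (a (-1)<|a (-1)<|a 1<|a 0<|a 0<|a 1<|a (-1)<|a 1<|b)<|c (a 0<|a (-1)<|a (-1)<|a 1<|a 0<|a 0<|a 1<|a 0<|b)<|c (a 0<|a 0<|a 1<|a 0<|a 0<|a 0<|a (-1)<|a 0<|b)<|e));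
 (d (a 1<|a 1<|a 0<|a (-1)<|a 1<|a (-1)<|a 1<|a (-1)<|b)<|d (a 1<|a 1<|a 0<|a 0<|a (-1)<|a 0<|a 0<|a 1<|b)<|d (a 1<|a (-1)<|a 0<|a 0<|a 0<|a 1<|a 0<|a (-1)<|b)<|d (a 1<|a (-1)<|a 0<|a 0<|a 1<|a (-1)<|a 0<|a 1<|b)<|d (a (-1)<|a 0<|a 0<|a 1<|a 0<|a (-1)<|a 1<|a (-1)<|b)<|d (a (-1)<|a 1<|a 1<|a (-1)<|a 0<|a 1<|a 0<|a (-1)<|b)<|d (a (-1)<|a 1<|a 1<|a (-1)<|a 1<|a (-1)<|a 0<|a 1<|b)<|e))))) (by decide +kernel)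
  · exact index_ge cs isCartan_cE8 hi (beta% delta% lq26aa79e2a5 fun a b c d _ _ h =>
 (let e:=(let e:=(let e:=(let e:=(c (a 1<|a 0<|a (-1)<|a 0<|a 1<|a 0<|a 0<|a 0<|b)<|c (a 0<|a 0<|a 1<|a (-1)<|a 1<|a 0<|a 0<|a 0<|b)<|c (a 0<|a (-1)<|a 0<|a 1<|a 0<|a 0<|a 0<|a 0<|b)<|c (a 0<|a 1<|a 0<|a 0<|a 0<|a 0<|a 0<|a 0<|b)<|h);
 (c (a 0<|a 0<|a 1<|a 0<|a 0<|a (-1)<|a 1<|a 0<|b)<|c (a 1<|a 0<|a (-1)<|a 1<|a (-1)<|a 1<|a 0<|a 0<|b)<|c (a (-1)<|a 0<|a 0<|a 0<|a 1<|a 0<|a 0<|a 0<|b)<|c (a 0<|a 0<|a 1<|a 0<|a (-1)<|a 1<|a 0<|a 0<|b)<|e));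
 (c (a 1<|a (-1)<|a 0<|a 0<|a 0<|a 1<|a 0<|a 0<|b)<|c (a (-1)<|a 0<|a 0<|a 1<|a 0<|a (-1)<|a 1<|a 0<|b)<|c (a (-1)<|a 1<|a 1<|a (-1)<|a 0<|a 1<|a 0<|a 0<|b)<|c (a 0<|a 0<|a 1<|a 0<|a 0<|a 0<|a (-1)<|a 1<|b)<|c (a 1<|a 0<|a (-1)<|a 1<|a 0<|a (-1)<|a 1<|a 0<|b)<|c (a 1<|a 1<|a 0<|a (-1)<|a 0<|a 1<|a 0<|a 0<|b)<|c (a (-1)<|a 0<|a 0<|a 1<|a (-1)<|a 1<|a 0<|a 0<|b)<|e));
 (let e:=(let e:=(c (a (-1)<|a (-1)<|a 1<|a 0<|a 0<|a 1<|a 0<|a 0<|b)<|c (a 0<|a 0<|a 1<|a 0<|a 0<|a 0<|a 0<|a (-1)<|b)<|c (a 1<|a 0<|a (-1)<|a 1<|a 0<|a 0<|a (-1)<|a 1<|b)<|c (a 1<|a 1<|a 0<|a (-1)<|a 1<|a (-1)<|a 1<|a 0<|b)<|e);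
 (c (a 1<|a (-1)<|a 0<|a 0<|a 1<|a (-1)<|a 1<|a 0<|b)<|c (a (-1)<|a 0<|a 0<|a 1<|a 0<|a 0<|a (-1)<|a 1<|b)<|c (a (-1)<|a 1<|a 1<|a (-1)<|a 1<|a (-1)<|a 1<|a 0<|b)<|c (a 0<|a 1<|a (-1)<|a 0<|a 0<|a 1<|a 0<|a 0<|b)<|e));
 (c (a (-1)<|a 1<|a 1<|a 0<|a (-1)<|a 0<|a 1<|a 0<|b)<|c (a 0<|a 1<|a (-1)<|a 0<|a 1<|a (-1)<|a 1<|a 0<|b)<|c (a (-1)<|a (-1)<|a 1<|a 0<|a 1<|a (-1)<|a 1<|a 0<|b)<|c (a 0<|a (-1)<|a (-1)<|a 1<|a 0<|a 1<|a 0<|a 0<|b)<|c (a 1<|a 0<|a (-1)<|a 1<|a 0<|a 0<|a 0<|a (-1)<|b)<|c (a 1<|a 1<|a 0<|a (-1)<|a 1<|a 0<|a (-1)<|a 1<|b)<|c (a 1<|a 1<|a 0<|a 0<|a (-1)<|a 0<|a 1<|a 0<|b)<|e)));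
 (let e:=(let e:=(let e:=(c (a 1<|a (-1)<|a 0<|a 0<|a 1<|a 0<|a (-1)<|a 1<|b)<|c (a 1<|a (-1)<|a 0<|a 1<|a (-1)<|a 0<|a 1<|a 0<|b)<|c (a (-1)<|a 0<|a 0<|a 1<|a 0<|a 0<|a 0<|a (-1)<|b)<|c (a (-1)<|a 1<|a 1<|a (-1)<|a 1<|a 0<|a (-1)<|a 1<|b)<|e);
 (c (a 0<|a (-1)<|a (-1)<|a 1<|a 1<|a (-1)<|a 1<|a 0<|b)<|c (a 0<|a 0<|a 0<|a (-1)<|a 1<|a 1<|a 0<|a 0<|b)<|c (a 1<|a 1<|a 0<|a (-1)<|a 1<|a 0<|a 0<|a (-1)<|b)<|c (a 1<|a 1<|a 0<|a 0<|a (-1)<|a 1<|a (-1)<|a 1<|b)<|e));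
 (c (a 1<|a 0<|a 1<|a (-1)<|a 0<|a 0<|a 1<|a 0<|b)<|c (a (-1)<|a 1<|a 1<|a (-1)<|a 1<|a 0<|a 0<|a (-1)<|b)<|c (a (-1)<|a 1<|a 1<|a 0<|a (-1)<|a 1<|a (-1)<|a 1<|b)<|c (a 0<|a 1<|a (-1)<|a 0<|a 1<|a 0<|a (-1)<|a 1<|b)<|c (a 0<|a 1<|a (-1)<|a 1<|a (-1)<|a 0<|a 1<|a 0<|b)<|c (a (-1)<|a (-1)<|a 1<|a 0<|a 1<|a 0<|a (-1)<|a 1<|b)<|c (a (-1)<|a (-1)<|a 1<|a 1<|a (-1)<|a 0<|a 1<|a 0<|b)<|e));
 (let e:=(let e:=(c (a 1<|a 1<|a 0<|a 0<|a (-1)<|a 1<|a 0<|a (-1)<|b)<|c (a 1<|a 1<|a 0<|a 0<|a 0<|a (-1)<|a 0<|a 1<|b)<|c (a 1<|a (-1)<|a 0<|a 0<|a 1<|a 0<|a 0<|a (-1)<|b)<|c (a 1<|a (-1)<|a 0<|a 1<|a (-1)<|a 1<|a (-1)<|a 1<|b)<|e);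
 (c (a 0<|a (-1)<|a (-1)<|a 1<|a 1<|a 0<|a (-1)<|a 1<|b)<|c (a 0<|a (-1)<|a (-1)<|a 2<|a (-1)<|a 0<|a 1<|a 0<|b)<|c (a 0<|a 0<|a 0<|a (-1)<|a 2<|a (-1)<|a 1<|a 0<|b)<|c (a 0<|a 0<|a 0<|a 0<|a (-1)<|a 2<|a 0<|a 0<|b)<|e));
 (d (a (-1)<|a 1<|a 1<|a 0<|a 0<|a (-1)<|a 0<|a 1<|b)<|d (a 0<|a 1<|a (-1)<|a 0<|a 1<|a 0<|a 0<|a (-1)<|b)<|d (a 0<|a 1<|a (-1)<|a 1<|a (-1)<|a 1<|a (-1)<|a 1<|b)<|d (a 0<|a 2<|a 0<|a (-1)<|a 0<|a 0<|a 1<|a 0<|b)<|d (a (-1)<|a (-1)<|a 1<|a 0<|a 1<|a 0<|a 0<|a (-1)<|b)<|d (a (-1)<|a (-1)<|a 1<|a 1<|a (-1)<|a 1<|a (-1)<|a 1<|b)<|d (a (-1)<|a 0<|a 2<|a (-1)<|a 0<|a 0<|a 1<|a 0<|b)<|e))))) (by decide +kernel)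
  · exact index_ge cs isCartan_cE8 hi (beta% delta% lq26aa79e2a5 fun a b c d _ _ h =>
 (let e:=(let e:=(let e:=(let e:=(c (a 1<|a 1<|a 0<|a (-1)<|a 1<|a 0<|a 0<|a 0<|b)<|c (a (-1)<|a 0<|a 0<|a 1<|a 0<|a 0<|a 0<|a 0<|b)<|c (a 1<|a 0<|a (-1)<|a 1<|a 0<|a 0<|a 0<|a 0<|b)<|c (a 0<|a 0<|a 1<|a 0<|a 0<|a 0<|a 0<|a 0<|b)<|h);
 (c (a (-1)<|a (-1)<|a 1<|a 0<|a 1<|a 0<|a 0<|a 0<|b)<|c (a 1<|a 1<|a 0<|a 0<|a (-1)<|a 1<|a 0<|a 0<|b)<|c (a 1<|a (-1)<|a 0<|a 0<|a 1<|a 0<|a 0<|a 0<|b)<|c (a (-1)<|a 1<|a 1<|a (-1)<|a 1<|a 0<|a 0<|a 0<|b)<|e));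
 (c (a 0<|a 1<|a (-1)<|a 1<|a (-1)<|a 1<|a 0<|a 0<|b)<|c (a (-1)<|a (-1)<|a 1<|a 1<|a (-1)<|a 1<|a 0<|a 0<|b)<|c (a 0<|a (-1)<|a (-1)<|a 1<|a 1<|a 0<|a 0<|a 0<|b)<|c (a 1<|a 1<|a 0<|a 0<|a 0<|a (-1)<|a 1<|a 0<|b)<|c (a 1<|a (-1)<|a 0<|a 1<|a (-1)<|a 1<|a 0<|a 0<|b)<|c (a (-1)<|a 1<|a 1<|a 0<|a (-1)<|a 1<|a 0<|a 0<|b)<|c (a 0<|a 1<|a (-1)<|a 0<|a 1<|a 0<|a 0<|a 0<|b)<|e));
 (let e:=(let e:=(c (a 1<|a 1<|a 0<|a 0<|a 0<|a 0<|a (-1)<|a 1<|b)<|c (a 1<|a (-1)<|a 0<|a 1<|a 0<|a (-1)<|a 1<|a 0<|b)<|c (a 1<|a 0<|a 1<|a (-1)<|a 0<|a 1<|a 0<|a 0<|b)<|c (a (-1)<|a 1<|a 1<|a 0<|a 0<|a (-1)<|a 1<|a 0<|b)<|e);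
 (c (a (-1)<|a (-1)<|a 1<|a 1<|a 0<|a (-1)<|a 1<|a 0<|b)<|c (a (-1)<|a 0<|a 2<|a (-1)<|a 0<|a 1<|a 0<|a 0<|b)<|c (a 0<|a (-1)<|a (-1)<|a 2<|a (-1)<|a 1<|a 0<|a 0<|b)<|c (a 0<|a 0<|a 0<|a (-1)<|a 2<|a 0<|a 0<|a 0<|b)<|e));
 (c (a 1<|a 1<|a 0<|a 0<|a 0<|a 0<|a 0<|a (-1)<|b)<|c (a 1<|a (-1)<|a 0<|a 1<|a 0<|a 0<|a (-1)<|a 1<|b)<|c (a 1<|a 0<|a 1<|a (-1)<|a 1<|a (-1)<|a 1<|a 0<|b)<|c (a 2<|a 0<|a (-1)<|a 0<|a 0<|a 1<|a 0<|a 0<|b)<|c (a (-1)<|a 1<|a 1<|a 0<|a 0<|a 0<|a (-1)<|a 1<|b)<|c (a 0<|a 1<|a (-1)<|a 1<|a 0<|a (-1)<|a 1<|a 0<|b)<|c (a 0<|a 2<|a 0<|a (-1)<|a 0<|a 1<|a 0<|a 0<|b)<|e)));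
 (let e:=(let e:=(let e:=(c (a 1<|a 0<|a (-2)<|a 1<|a 0<|a 1<|a 0<|a 0<|b)<|c (a 0<|a (-1)<|a (-1)<|a 2<|a 0<|a (-1)<|a 1<|a 0<|b)<|c (a 0<|a 1<|a 1<|a (-2)<|a 1<|a 1<|a 0<|a 0<|b)<|c (a 0<|a 0<|a 0<|a 1<|a (-2)<|a 2<|a 0<|a 0<|b)<|e);
 (c (a 0<|a 2<|a 0<|a (-1)<|a 1<|a (-1)<|a 1<|a 0<|b)<|c (a 0<|a (-2)<|a 0<|a 1<|a 0<|a 1<|a 0<|a 0<|b)<|c (a (-1)<|a (-1)<|a 1<|a 1<|a 0<|a 0<|a (-1)<|a 1<|b)<|c (a (-1)<|a 0<|a 2<|a (-1)<|a 1<|a (-1)<|a 1<|a 0<|b)<|e));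
 (c (a 1<|a (-1)<|a 0<|a 1<|a 0<|a 0<|a 0<|a (-1)<|b)<|c (a 1<|a 0<|a 1<|a (-1)<|a 1<|a 0<|a (-1)<|a 1<|b)<|c (a 1<|a 0<|a 1<|a 0<|a (-1)<|a 0<|a 1<|a 0<|b)<|c (a 2<|a 0<|a (-1)<|a 0<|a 1<|a (-1)<|a 1<|a 0<|b)<|c (a (-2)<|a 0<|a 1<|a 0<|a 0<|a 1<|a 0<|a 0<|b)<|c (a (-1)<|a 1<|a 1<|a 0<|a 0<|a 0<|a 0<|a (-1)<|b)<|c (a 0<|a 1<|a (-1)<|a 1<|a 0<|a 0<|a (-1)<|a 1<|b)<|e));
 (let e:=(let e:=(c (a 1<|a 1<|a (-1)<|a (-1)<|a 1<|a 1<|a 0<|a 0<|b)<|c (a 0<|a (-1)<|a 1<|a (-1)<|a 1<|a 1<|a 0<|a 0<|b)<|c (a 0<|a 0<|a 0<|a 1<|a 0<|a (-2)<|a 2<|a 0<|b)<|c (a 0<|a 1<|a 1<|a (-1)<|a (-1)<|a 2<|a 0<|a 0<|b)<|e);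
 (c (a 1<|a 0<|a (-2)<|a 1<|a 1<|a (-1)<|a 1<|a 0<|b)<|c (a (-1)<|a 0<|a (-1)<|a 1<|a 0<|a 1<|a 0<|a 0<|b)<|c (a 0<|a (-1)<|a (-1)<|a 2<|a 0<|a 0<|a (-1)<|a 1<|b)<|c (a 0<|a 1<|a 1<|a (-2)<|a 2<|a (-1)<|a 1<|a 0<|b)<|e));
 (d (a 0<|a 1<|a (-1)<|a 1<|a 0<|a 0<|a 0<|a (-1)<|b)<|d (a 0<|a 2<|a 0<|a (-1)<|a 1<|a 0<|a (-1)<|a 1<|b)<|d (a 0<|a 2<|a 0<|a 0<|a (-1)<|a 0<|a 1<|a 0<|b)<|d (a 0<|a (-2)<|a 0<|a 1<|a 1<|a (-1)<|a 1<|a 0<|b)<|d (a (-1)<|a (-1)<|a 1<|a 1<|a 0<|a 0<|a 0<|a (-1)<|b)<|d (a (-1)<|a 0<|a 2<|a (-1)<|a 1<|a 0<|a (-1)<|a 1<|b)<|d (a (-1)<|a 0<|a 2<|a 0<|a (-1)<|a 0<|a 1<|a 0<|b)<|e))))) (by decide +kernel)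
  · exact index_ge cs isCartan_cE8 hi (beta% delta% lq26aa79e2a5 fun a b c d _ _ h =>
 (let e:=(let e:=(let e:=(let e:=(c (a 1<|a 1<|a (-1)<|a 0<|a 1<|a 0<|a 0<|a 0<|b)<|c (a 0<|a (-1)<|a 1<|a 0<|a 1<|a 0<|a 0<|a 0<|b)<|c (a 0<|a 1<|a 1<|a (-1)<|a 1<|a 0<|a 0<|a 0<|b)<|c (a 0<|a 0<|a 0<|a 1<|a 0<|a 0<|a 0<|a 0<|b)<|h);
 (c (a (-1)<|a 1<|a 0<|a 0<|a 1<|a 0<|a 0<|a 0<|b)<|c (a 0<|a (-1)<|a 1<|a 1<|a (-1)<|a 1<|a 0<|a 0<|b)<|c (a 1<|a (-1)<|a (-1)<|a 1<|a 1<|a 0<|a 0<|a 0<|b)<|c (a 0<|a 1<|a 1<|a 0<|a (-1)<|a 1<|a 0<|a 0<|b)<|e));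
 (c (a 0<|a (-1)<|a 1<|a 1<|a 0<|a (-1)<|a 1<|a 0<|b)<|c (a 0<|a 0<|a 2<|a (-1)<|a 0<|a 1<|a 0<|a 0<|b)<|c (a 1<|a (-1)<|a (-1)<|a 2<|a (-1)<|a 1<|a 0<|a 0<|b)<|c (a 1<|a 0<|a 0<|a (-1)<|a 2<|a 0<|a 0<|a 0<|b)<|c (a (-1)<|a (-1)<|a 0<|a 1<|a 1<|a 0<|a 0<|a 0<|b)<|c (a 0<|a 1<|a 1<|a 0<|a 0<|a (-1)<|a 1<|a 0<|b)<|c (a 1<|a 1<|a (-1)<|a 1<|a (-1)<|a 1<|a 0<|a 0<|b)<|e));
 (let e:=(let e:=(c (a 0<|a 1<|a 1<|a 0<|a 0<|a 0<|a (-1)<|a 1<|b)<|c (a 1<|a 1<|a (-1)<|a 1<|a 0<|a (-1)<|a 1<|a 0<|b)<|c (a 1<|a 2<|a 0<|a (-1)<|a 0<|a 1<|a 0<|a 0<|b)<|c (a (-1)<|a 1<|a 0<|a 1<|a (-1)<|a 1<|a 0<|a 0<|b)<|e);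
 (c (a 1<|a 1<|a 1<|a (-2)<|a 1<|a 1<|a 0<|a 0<|b)<|c (a 1<|a 0<|a 0<|a 1<|a (-2)<|a 2<|a 0<|a 0<|b)<|c (a (-1)<|a (-1)<|a 0<|a 2<|a (-1)<|a 1<|a 0<|a 0<|b)<|c (a (-1)<|a 0<|a 1<|a (-1)<|a 2<|a 0<|a 0<|a 0<|b)<|e));
 (c (a 1<|a (-2)<|a 0<|a 1<|a 0<|a 1<|a 0<|a 0<|b)<|c (a (-1)<|a 1<|a 0<|a 1<|a 0<|a (-1)<|a 1<|a 0<|b)<|c (a (-1)<|a 2<|a 1<|a (-1)<|a 0<|a 1<|a 0<|a 0<|b)<|c (a 0<|a (-1)<|a 1<|a 1<|a 0<|a 0<|a (-1)<|a 1<|b)<|c (a 0<|a 0<|a 2<|a (-1)<|a 1<|a (-1)<|a 1<|a 0<|b)<|c (a 2<|a 0<|a (-2)<|a 1<|a 0<|a 1<|a 0<|a 0<|b)<|c (a 1<|a (-1)<|a (-1)<|a 2<|a 0<|a (-1)<|a 1<|a 0<|b)<|e)));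
 (let e:=(let e:=(let e:=(c (a 0<|a 0<|a (-1)<|a 0<|a 2<|a 0<|a 0<|a 0<|b)<|c (a 0<|a 1<|a 1<|a 0<|a 0<|a 0<|a 0<|a (-1)<|b)<|c (a 1<|a 1<|a (-1)<|a 1<|a 0<|a 0<|a (-1)<|a 1<|b)<|c (a 1<|a 2<|a 0<|a (-1)<|a 1<|a (-1)<|a 1<|a 0<|b)<|e);
 (c (a 1<|a 1<|a 1<|a (-1)<|a (-1)<|a 2<|a 0<|a 0<|b)<|c (a (-1)<|a (-1)<|a 0<|a 2<|a 0<|a (-1)<|a 1<|a 0<|b)<|c (a (-1)<|a 1<|a 2<|a (-2)<|a 1<|a 1<|a 0<|a 0<|b)<|c (a (-1)<|a 0<|a 1<|a 1<|a (-2)<|a 2<|a 0<|a 0<|b)<|e));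
 (c (a 2<|a 0<|a (-2)<|a 1<|a 1<|a (-1)<|a 1<|a 0<|b)<|c (a (-2)<|a 0<|a 0<|a 1<|a 0<|a 1<|a 0<|a 0<|b)<|c (a 1<|a (-1)<|a (-1)<|a 2<|a 0<|a 0<|a (-1)<|a 1<|b)<|c (a 1<|a 1<|a 1<|a (-2)<|a 2<|a (-1)<|a 1<|a 0<|b)<|c (a 2<|a 1<|a (-1)<|a (-1)<|a 1<|a 1<|a 0<|a 0<|b)<|c (a 1<|a (-1)<|a 1<|a (-1)<|a 1<|a 1<|a 0<|a 0<|b)<|c (a 1<|a 0<|a 0<|a 1<|a 0<|a (-2)<|a 2<|a 0<|b)<|e));
 (let e:=(let e:=(c (a (-1)<|a (-2)<|a 1<|a 1<|a 0<|a 1<|a 0<|a 0<|b)<|c (a 0<|a (-1)<|a 1<|a 1<|a 0<|a 0<|a 0<|a (-1)<|b)<|c (a 0<|a 0<|a 2<|a (-1)<|a 1<|a 0<|a (-1)<|a 1<|b)<|c (a 0<|a 0<|a 2<|a 0<|a (-1)<|a 0<|a 1<|a 0<|b)<|e);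
 (c (a 1<|a (-2)<|a 0<|a 1<|a 1<|a (-1)<|a 1<|a 0<|b)<|c (a (-1)<|a 1<|a 0<|a 1<|a 0<|a 0<|a (-1)<|a 1<|b)<|c (a (-1)<|a 2<|a 1<|a (-1)<|a 1<|a (-1)<|a 1<|a 0<|b)<|c (a 0<|a 2<|a (-1)<|a 0<|a 0<|a 1<|a 0<|a 0<|b)<|e));
 (d (a (-1)<|a (-1)<|a 2<|a (-1)<|a 1<|a 1<|a 0<|a 0<|b)<|d (a (-1)<|a 0<|a 1<|a 1<|a 0<|a (-2)<|a 2<|a 0<|b)<|d (a (-1)<|a 1<|a 2<|a (-1)<|a (-1)<|a 2<|a 0<|a 0<|b)<|d (a 0<|a 0<|a (-1)<|a 2<|a (-2)<|a 2<|a 0<|a 0<|b)<|d (a 1<|a 1<|a (-1)<|a 1<|a 0<|a 0<|a 0<|a (-1)<|b)<|d (a 1<|a 2<|a 0<|a (-1)<|a 1<|a 0<|a (-1)<|a 1<|b)<|d (a 1<|a 2<|a 0<|a 0<|a (-1)<|a 0<|a 1<|a 0<|b)<|e))))) (by decide +kernel)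
  · exact index_ge cs isCartan_cE8 hi (beta% delta% lq26aa79e2a5 fun a b c d _ _ h =>
 (let e:=(let e:=(let e:=(let e:=(c (a 0<|a 0<|a 0<|a 1<|a 0<|a (-1)<|a 1<|a 0<|b)<|c (a 0<|a 1<|a 1<|a (-1)<|a 0<|a 1<|a 0<|a 0<|b)<|c (a 0<|a 0<|a 0<|a 1<|a (-1)<|a 1<|a 0<|a 0<|b)<|c (a 0<|a 0<|a 0<|a 0<|a 1<|a 0<|a 0<|a 0<|b)<|h);
 (c (a 0<|a 0<|a 0<|a 1<|a 0<|a 0<|a (-1)<|a 1<|b)<|c (a 0<|a 1<|a 1<|a (-1)<|a 1<|a (-1)<|a 1<|a 0<|b)<|c (a 1<|a 1<|a (-1)<|a 0<|a 0<|a 1<|a 0<|a 0<|b)<|c (a 0<|a (-1)<|a 1<|a 0<|a 0<|a 1<|a 0<|a 0<|b)<|e));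
 (c (a 0<|a 0<|a 0<|a 1<|a 0<|a 0<|a 0<|a (-1)<|b)<|c (a 0<|a 1<|a 1<|a (-1)<|a 1<|a 0<|a (-1)<|a 1<|b)<|c (a 0<|a 1<|a 1<|a 0<|a (-1)<|a 0<|a 1<|a 0<|b)<|c (a 1<|a 1<|a (-1)<|a 0<|a 1<|a (-1)<|a 1<|a 0<|b)<|c (a (-1)<|a 1<|a 0<|a 0<|a 0<|a 1<|a 0<|a 0<|b)<|c (a 0<|a (-1)<|a 1<|a 0<|a 1<|a (-1)<|a 1<|a 0<|b)<|c (a 1<|a (-1)<|a (-1)<|a 1<|a 0<|a 1<|a 0<|a 0<|b)<|e));
 (let e:=(let e:=(c (a 0<|a (-1)<|a 1<|a 1<|a (-1)<|a 0<|a 1<|a 0<|b)<|c (a 1<|a (-1)<|a (-1)<|a 1<|a 1<|a (-1)<|a 1<|a 0<|b)<|c (a 1<|a 0<|a 0<|a (-1)<|a 1<|a 1<|a 0<|a 0<|b)<|c (a (-1)<|a (-1)<|a 0<|a 1<|a 0<|a 1<|a 0<|a 0<|b)<|e);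
 (c (a 1<|a 1<|a (-1)<|a 0<|a 1<|a 0<|a (-1)<|a 1<|b)<|c (a 1<|a 1<|a (-1)<|a 1<|a (-1)<|a 0<|a 1<|a 0<|b)<|c (a (-1)<|a 1<|a 0<|a 0<|a 1<|a (-1)<|a 1<|a 0<|b)<|c (a 0<|a (-1)<|a 1<|a 0<|a 1<|a 0<|a (-1)<|a 1<|b)<|e));
 (c (a 1<|a (-1)<|a (-1)<|a 2<|a (-1)<|a 0<|a 1<|a 0<|b)<|c (a 1<|a 0<|a 0<|a (-1)<|a 2<|a (-1)<|a 1<|a 0<|b)<|c (a 1<|a 0<|a 0<|a 0<|a (-1)<|a 2<|a 0<|a 0<|b)<|c (a (-1)<|a (-1)<|a 0<|a 1<|a 1<|a (-1)<|a 1<|a 0<|b)<|c (a (-1)<|a 0<|a 1<|a (-1)<|a 1<|a 1<|a 0<|a 0<|b)<|c (a 0<|a 1<|a 1<|a (-1)<|a 1<|a 0<|a 0<|a (-1)<|b)<|c (a 0<|a 1<|a 1<|a 0<|a (-1)<|a 1<|a (-1)<|a 1<|b)<|e)));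
 (let e:=(let e:=(let e:=(c (a 0<|a (-1)<|a 1<|a 0<|a 1<|a 0<|a 0<|a (-1)<|b)<|c (a 0<|a (-1)<|a 1<|a 1<|a (-1)<|a 1<|a (-1)<|a 1<|b)<|c (a 0<|a 0<|a 2<|a (-1)<|a 0<|a 0<|a 1<|a 0<|b)<|c (a 1<|a (-1)<|a (-1)<|a 1<|a 1<|a 0<|a (-1)<|a 1<|b)<|e);
 (c (a 1<|a 1<|a (-1)<|a 1<|a (-1)<|a 1<|a (-1)<|a 1<|b)<|c (a 1<|a 2<|a 0<|a (-1)<|a 0<|a 0<|a 1<|a 0<|b)<|c (a (-1)<|a 1<|a 0<|a 0<|a 1<|a 0<|a (-1)<|a 1<|b)<|c (a (-1)<|a 1<|a 0<|a 1<|a (-1)<|a 0<|a 1<|a 0<|b)<|e));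
 (c (a (-1)<|a (-1)<|a 0<|a 2<|a (-1)<|a 0<|a 1<|a 0<|b)<|c (a (-1)<|a 0<|a 1<|a (-1)<|a 2<|a (-1)<|a 1<|a 0<|b)<|c (a (-1)<|a 0<|a 1<|a 0<|a (-1)<|a 2<|a 0<|a 0<|b)<|c (a 0<|a 0<|a (-1)<|a 0<|a 1<|a 1<|a 0<|a 0<|b)<|c (a 0<|a 1<|a 1<|a 0<|a (-1)<|a 1<|a 0<|a (-1)<|b)<|c (a 0<|a 1<|a 1<|a 0<|a 0<|a (-1)<|a 0<|a 1<|b)<|c (a 1<|a 1<|a (-1)<|a 0<|a 1<|a 0<|a 0<|a (-1)<|b)<|e));
 (let e:=(let e:=(c (a 1<|a 0<|a 0<|a (-1)<|a 2<|a 0<|a (-1)<|a 1<|b)<|c (a 1<|a 0<|a 0<|a 1<|a (-2)<|a 1<|a 1<|a 0<|b)<|c (a 1<|a 0<|a 0<|a 0<|a 1<|a (-2)<|a 2<|a 0<|b)<|c (a (-1)<|a (-1)<|a 0<|a 1<|a 1<|a 0<|a (-1)<|a 1<|b)<|e);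
 (c (a 2<|a 0<|a (-2)<|a 1<|a 0<|a 0<|a 1<|a 0<|b)<|c (a 1<|a (-1)<|a (-1)<|a 1<|a 1<|a 0<|a 0<|a (-1)<|b)<|c (a 1<|a (-1)<|a (-1)<|a 2<|a (-1)<|a 1<|a (-1)<|a 1<|b)<|c (a 1<|a 1<|a 1<|a (-2)<|a 1<|a 0<|a 1<|a 0<|b)<|e));
 (d (a 1<|a (-2)<|a 0<|a 1<|a 0<|a 0<|a 1<|a 0<|b)<|d (a (-1)<|a 1<|a 0<|a 0<|a 1<|a 0<|a 0<|a (-1)<|b)<|d (a (-1)<|a 1<|a 0<|a 1<|a (-1)<|a 1<|a (-1)<|a 1<|b)<|d (a (-1)<|a 2<|a 1<|a (-1)<|a 0<|a 0<|a 1<|a 0<|b)<|d (a 0<|a (-1)<|a 1<|a 1<|a (-1)<|a 1<|a 0<|a (-1)<|b)<|d (a 0<|a (-1)<|a 1<|a 1<|a 0<|a (-1)<|a 0<|a 1<|b)<|d (a 0<|a 0<|a 2<|a (-1)<|a 0<|a 1<|a (-1)<|a 1<|b)<|e))))) (by decide +kernel)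
  · exact index_ge cs isCartan_cE8 hi (beta% delta% lq26aa79e2a5 fun a b c d _ _ h =>
 (let e:=(let e:=(let e:=(let e:=(c (a 0<|a 0<|a 0<|a 0<|a 1<|a 0<|a (-1)<|a 1<|b)<|c (a 0<|a 0<|a 0<|a 1<|a (-1)<|a 0<|a 1<|a 0<|b)<|c (a 0<|a 0<|a 0<|a 0<|a 1<|a (-1)<|a 1<|a 0<|b)<|c (a 0<|a 0<|a 0<|a 0<|a 0<|a 1<|a 0<|a 0<|b)<|h);
 (c (a 0<|a (-1)<|a 1<|a 0<|a 0<|a 0<|a 1<|a 0<|b)<|c (a 0<|a 0<|a 0<|a 0<|a 1<|a 0<|a 0<|a (-1)<|b)<|c (a 0<|a 0<|a 0<|a 1<|a (-1)<|a 1<|a (-1)<|a 1<|b)<|c (a 0<|a 1<|a 1<|a (-1)<|a 0<|a 0<|a 1<|a 0<|b)<|e));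
 (c (a (-1)<|a 1<|a 0<|a 0<|a 0<|a 0<|a 1<|a 0<|b)<|c (a 0<|a (-1)<|a 1<|a 0<|a 0<|a 1<|a (-1)<|a 1<|b)<|c (a 1<|a (-1)<|a (-1)<|a 1<|a 0<|a 0<|a 1<|a 0<|b)<|c (a 0<|a 0<|a 0<|a 1<|a (-1)<|a 1<|a 0<|a (-1)<|b)<|c (a 0<|a 0<|a 0<|a 1<|a 0<|a (-1)<|a 0<|a 1<|b)<|c (a 0<|a 1<|a 1<|a (-1)<|a 0<|a 1<|a (-1)<|a 1<|b)<|c (a 1<|a 1<|a (-1)<|a 0<|a 0<|a 0<|a 1<|a 0<|b)<|e));
 (let e:=(let e:=(c (a 0<|a 0<|a 0<|a 1<|a 0<|a (-1)<|a 1<|a (-1)<|b)<|c (a 0<|a 1<|a 1<|a (-1)<|a 0<|a 1<|a 0<|a (-1)<|b)<|c (a 0<|a 1<|a 1<|a (-1)<|a 1<|a (-1)<|a 0<|a 1<|b)<|c (a 1<|a 1<|a (-1)<|a 0<|a 0<|a 1<|a (-1)<|a 1<|b)<|e);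
 (c (a 0<|a (-1)<|a 1<|a 0<|a 1<|a (-1)<|a 0<|a 1<|b)<|c (a 1<|a (-1)<|a (-1)<|a 1<|a 0<|a 1<|a (-1)<|a 1<|b)<|c (a 1<|a 0<|a 0<|a (-1)<|a 1<|a 0<|a 1<|a 0<|b)<|c (a (-1)<|a (-1)<|a 0<|a 1<|a 0<|a 0<|a 1<|a 0<|b)<|e));
 (c (a 0<|a 0<|a 0<|a 1<|a 0<|a 0<|a (-1)<|a 0<|b)<|c (a 0<|a 1<|a 1<|a (-1)<|a 1<|a (-1)<|a 1<|a (-1)<|b)<|c (a 0<|a 1<|a 1<|a 0<|a (-1)<|a 0<|a 0<|a 1<|b)<|c (a 1<|a 1<|a (-1)<|a 0<|a 0<|a 1<|a 0<|a (-1)<|b)<|c (a 1<|a 1<|a (-1)<|a 0<|a 1<|a (-1)<|a 0<|a 1<|b)<|c (a (-1)<|a 1<|a 0<|a 0<|a 0<|a 1<|a (-1)<|a 1<|b)<|c (a 0<|a (-1)<|a 1<|a 0<|a 0<|a 1<|a 0<|a (-1)<|b)<|e)));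
 (let e:=(let e:=(let e:=(c (a 1<|a 0<|a 0<|a (-1)<|a 1<|a 1<|a (-1)<|a 1<|b)<|c (a 1<|a 0<|a 0<|a 0<|a (-1)<|a 1<|a 1<|a 0<|b)<|c (a (-1)<|a (-1)<|a 0<|a 1<|a 0<|a 1<|a (-1)<|a 1<|b)<|c (a (-1)<|a 0<|a 1<|a (-1)<|a 1<|a 0<|a 1<|a 0<|b)<|e);
 (c (a 0<|a (-1)<|a 1<|a 0<|a 1<|a (-1)<|a 1<|a (-1)<|b)<|c (a 0<|a (-1)<|a 1<|a 1<|a (-1)<|a 0<|a 0<|a 1<|b)<|c (a 1<|a (-1)<|a (-1)<|a 1<|a 0<|a 1<|a 0<|a (-1)<|b)<|c (a 1<|a (-1)<|a (-1)<|a 1<|a 1<|a (-1)<|a 0<|a 1<|b)<|e));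
 (c (a 0<|a 0<|a (-1)<|a 0<|a 1<|a 0<|a 1<|a 0<|b)<|c (a 0<|a 1<|a 1<|a (-1)<|a 1<|a 0<|a (-1)<|a 0<|b)<|c (a 0<|a 1<|a 1<|a 0<|a (-1)<|a 0<|a 1<|a (-1)<|b)<|c (a 1<|a 1<|a (-1)<|a 0<|a 1<|a (-1)<|a 1<|a (-1)<|b)<|c (a 1<|a 1<|a (-1)<|a 1<|a (-1)<|a 0<|a 0<|a 1<|b)<|c (a (-1)<|a 1<|a 0<|a 0<|a 0<|a 1<|a 0<|a (-1)<|b)<|c (a (-1)<|a 1<|a 0<|a 0<|a 1<|a (-1)<|a 0<|a 1<|b)<|e));
 (let e:=(let e:=(c (a (-1)<|a (-1)<|a 0<|a 1<|a 0<|a 1<|a 0<|a (-1)<|b)<|c (a (-1)<|a (-1)<|a 0<|a 1<|a 1<|a (-1)<|a 0<|a 1<|b)<|c (a (-1)<|a 0<|a 1<|a (-1)<|a 1<|a 1<|a (-1)<|a 1<|b)<|c (a (-1)<|a 0<|a 1<|a 0<|a (-1)<|a 1<|a 1<|a 0<|b)<|e);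
 (c (a 1<|a 0<|a 0<|a (-1)<|a 1<|a 1<|a 0<|a (-1)<|b)<|c (a 1<|a 0<|a 0<|a (-1)<|a 2<|a (-1)<|a 0<|a 1<|b)<|c (a 1<|a 0<|a 0<|a 0<|a (-1)<|a 2<|a (-1)<|a 1<|b)<|c (a 1<|a 0<|a 0<|a 0<|a 0<|a (-1)<|a 2<|a 0<|b)<|e));
 (d (a (-1)<|a 1<|a 0<|a 0<|a 1<|a (-1)<|a 1<|a (-1)<|b)<|d (a (-1)<|a 1<|a 0<|a 1<|a (-1)<|a 0<|a 0<|a 1<|b)<|d (a 0<|a (-1)<|a 1<|a 0<|a 1<|a 0<|a (-1)<|a 0<|b)<|d (a 0<|a (-1)<|a 1<|a 1<|a (-1)<|a 0<|a 1<|a (-1)<|b)<|d (a 0<|a 0<|a 2<|a (-1)<|a 0<|a 0<|a 0<|a 1<|b)<|d (a 1<|a (-1)<|a (-1)<|a 1<|a 1<|a (-1)<|a 1<|a (-1)<|b)<|d (a 1<|a (-1)<|a (-1)<|a 2<|a (-1)<|a 0<|a 0<|a 1<|b)<|e))))) (by decide +kernel)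
  · exact index_ge cs isCartan_cE8 hi (beta% delta% lq26aa79e2a5 fun a b c d _ _ h =>
 (let e:=(let e:=(let e:=(let e:=(c (a 0<|a 0<|a 0<|a 0<|a 0<|a 1<|a 0<|a (-1)<|b)<|c (a 0<|a 0<|a 0<|a 0<|a 1<|a (-1)<|a 0<|a 1<|b)<|c (a 0<|a 0<|a 0<|a 0<|a 0<|a 1<|a (-1)<|a 1<|b)<|c (a 0<|a 0<|a 0<|a 0<|a 0<|a 0<|a 1<|a 0<|b)<|h);
 (c (a 0<|a 0<|a 0<|a 1<|a (-1)<|a 0<|a 1<|a (-1)<|b)<|c (a 0<|a 1<|a 1<|a (-1)<|a 0<|a 0<|a 0<|a 1<|b)<|c (a 0<|a 0<|a 0<|a 0<|a 1<|a (-1)<|a 1<|a (-1)<|b)<|c (a 0<|a 0<|a 0<|a 1<|a (-1)<|a 0<|a 0<|a 1<|b)<|e));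
 (c (a 0<|a (-1)<|a 1<|a 0<|a 0<|a 0<|a 1<|a (-1)<|b)<|c (a 1<|a (-1)<|a (-1)<|a 1<|a 0<|a 0<|a 0<|a 1<|b)<|c (a 0<|a 0<|a 0<|a 1<|a (-1)<|a 1<|a (-1)<|a 0<|b)<|c (a 0<|a 1<|a 1<|a (-1)<|a 0<|a 0<|a 1<|a (-1)<|b)<|c (a 1<|a 1<|a (-1)<|a 0<|a 0<|a 0<|a 0<|a 1<|b)<|c (a 0<|a (-1)<|a 1<|a 0<|a 0<|a 0<|a 0<|a 1<|b)<|c (a 0<|a 0<|a 0<|a 0<|a 1<|a 0<|a (-1)<|a 0<|b)<|e));
 (let e:=(let e:=(c (a 0<|a 0<|a 0<|a 1<|a 0<|a (-1)<|a 0<|a 0<|b)<|c (a 0<|a 1<|a 1<|a (-1)<|a 0<|a 1<|a (-1)<|a 0<|b)<|c (a 1<|a 1<|a (-1)<|a 0<|a 0<|a 0<|a 1<|a (-1)<|b)<|c (a (-1)<|a 1<|a 0<|a 0<|a 0<|a 0<|a 0<|a 1<|b)<|e);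
 (c (a 0<|a (-1)<|a 1<|a 0<|a 0<|a 1<|a (-1)<|a 0<|b)<|c (a 1<|a (-1)<|a (-1)<|a 1<|a 0<|a 0<|a 1<|a (-1)<|b)<|c (a 1<|a 0<|a 0<|a (-1)<|a 1<|a 0<|a 0<|a 1<|b)<|c (a (-1)<|a (-1)<|a 0<|a 1<|a 0<|a 0<|a 0<|a 1<|b)<|e));
 (c (a 1<|a 0<|a 0<|a (-1)<|a 1<|a 0<|a 1<|a (-1)<|b)<|c (a 1<|a 0<|a 0<|a 0<|a (-1)<|a 1<|a 0<|a 1<|b)<|c (a (-1)<|a (-1)<|a 0<|a 1<|a 0<|a 0<|a 1<|a (-1)<|b)<|c (a (-1)<|a 0<|a 1<|a (-1)<|a 1<|a 0<|a 0<|a 1<|b)<|c (a 0<|a 1<|a 1<|a (-1)<|a 1<|a (-1)<|a 0<|a 0<|b)<|c (a 1<|a 1<|a (-1)<|a 0<|a 0<|a 1<|a (-1)<|a 0<|b)<|c (a (-1)<|a 1<|a 0<|a 0<|a 0<|a 0<|a 1<|a (-1)<|b)<|e)));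
 (let e:=(let e:=(let e:=(c (a 1<|a 1<|a (-1)<|a 0<|a 1<|a (-1)<|a 0<|a 0<|b)<|c (a (-1)<|a 1<|a 0<|a 0<|a 0<|a 1<|a (-1)<|a 0<|b)<|c (a 0<|a (-1)<|a 1<|a 0<|a 1<|a (-1)<|a 0<|a 0<|b)<|c (a 1<|a (-1)<|a (-1)<|a 1<|a 0<|a 1<|a (-1)<|a 0<|b)<|e);
 (c (a (-1)<|a 0<|a 1<|a (-1)<|a 1<|a 0<|a 1<|a (-1)<|b)<|c (a (-1)<|a 0<|a 1<|a 0<|a (-1)<|a 1<|a 0<|a 1<|b)<|c (a 0<|a 0<|a (-1)<|a 0<|a 1<|a 0<|a 0<|a 1<|b)<|c (a 0<|a 1<|a 1<|a 0<|a (-1)<|a 0<|a 0<|a 0<|b)<|e));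
 (c (a (-1)<|a 1<|a 0<|a 0<|a 1<|a (-1)<|a 0<|a 0<|b)<|c (a 0<|a (-1)<|a 1<|a 1<|a (-1)<|a 0<|a 0<|a 0<|b)<|c (a 1<|a (-1)<|a (-1)<|a 1<|a 1<|a (-1)<|a 0<|a 0<|b)<|c (a 1<|a 0<|a 0<|a (-1)<|a 1<|a 1<|a (-1)<|a 0<|b)<|c (a 1<|a 0<|a 0<|a 0<|a (-1)<|a 1<|a 1<|a (-1)<|b)<|c (a 1<|a 0<|a 0<|a 0<|a 0<|a (-1)<|a 1<|a 1<|b)<|c (a (-1)<|a (-1)<|a 0<|a 1<|a 0<|a 1<|a (-1)<|a 0<|b)<|e));
 (let e:=(let e:=(c (a (-1)<|a 0<|a 1<|a 0<|a 0<|a (-1)<|a 1<|a 1<|b)<|c (a 0<|a 0<|a (-1)<|a 0<|a 1<|a 0<|a 1<|a (-1)<|b)<|c (a 0<|a 0<|a (-1)<|a 1<|a (-1)<|a 1<|a 0<|a 1<|b)<|c (a 1<|a 1<|a (-1)<|a 1<|a (-1)<|a 0<|a 0<|a 0<|b)<|e);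
 (c (a 1<|a 0<|a 0<|a 0<|a 0<|a 0<|a (-1)<|a 2<|b)<|c (a (-1)<|a (-1)<|a 0<|a 1<|a 1<|a (-1)<|a 0<|a 0<|b)<|c (a (-1)<|a 0<|a 1<|a (-1)<|a 1<|a 1<|a (-1)<|a 0<|b)<|c (a (-1)<|a 0<|a 1<|a 0<|a (-1)<|a 1<|a 1<|a (-1)<|b)<|e));
 (d (a 1<|a 2<|a 0<|a (-1)<|a 0<|a 0<|a 0<|a 0<|b)<|d (a (-1)<|a 1<|a 0<|a 1<|a (-1)<|a 0<|a 0<|a 0<|b)<|d (a 0<|a 0<|a 2<|a (-1)<|a 0<|a 0<|a 0<|a 0<|b)<|d (a 1<|a (-1)<|a (-1)<|a 2<|a (-1)<|a 0<|a 0<|a 0<|b)<|d (a 1<|a 0<|a 0<|a (-1)<|a 2<|a (-1)<|a 0<|a 0<|b)<|d (a 1<|a 0<|a 0<|a 0<|a (-1)<|a 2<|a (-1)<|a 0<|b)<|d (a 1<|a 0<|a 0<|a 0<|a 0<|a (-1)<|a 2<|a (-1)<|b)<|e))))) (by decide +kernel)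
  · exact index_ge cs isCartan_cE8 hi (beta% delta% lq26aa79e2a5 fun a b c d _ _ h =>
 (let e:=(let e:=(let e:=(let e:=(c (a 0<|a 0<|a 0<|a 0<|a 1<|a (-1)<|a 0<|a 0<|b)<|c (a 0<|a 0<|a 0<|a 0<|a 0<|a 1<|a (-1)<|a 0<|b)<|c (a 0<|a 0<|a 0<|a 0<|a 0<|a 0<|a 1<|a (-1)<|b)<|c (a 0<|a 0<|a 0<|a 0<|a 0<|a 0<|a 0<|a 1<|b)<|h);
 (c (a 1<|a 1<|a (-1)<|a 0<|a 0<|a 0<|a 0<|a 0<|b)<|c (a 0<|a (-1)<|a 1<|a 0<|a 0<|a 0<|a 0<|a 0<|b)<|c (a 0<|a 1<|a 1<|a (-1)<|a 0<|a 0<|a 0<|a 0<|b)<|c (a 0<|a 0<|a 0<|a 1<|a (-1)<|a 0<|a 0<|a 0<|b)<|e));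
 (c (a 0<|a 0<|a (-1)<|a 0<|a 1<|a 0<|a 0<|a 0<|b)<|c (a 1<|a 0<|a 0<|a 0<|a (-1)<|a 1<|a 0<|a 0<|b)<|c (a (-1)<|a 0<|a 1<|a (-1)<|a 1<|a 0<|a 0<|a 0<|b)<|c (a 1<|a 0<|a 0<|a (-1)<|a 1<|a 0<|a 0<|a 0<|b)<|c (a (-1)<|a (-1)<|a 0<|a 1<|a 0<|a 0<|a 0<|a 0<|b)<|c (a (-1)<|a 1<|a 0<|a 0<|a 0<|a 0<|a 0<|a 0<|b)<|c (a 1<|a (-1)<|a (-1)<|a 1<|a 0<|a 0<|a 0<|a 0<|b)<|e));
 (let e:=(let e:=(c (a (-1)<|a 0<|a 1<|a 0<|a 0<|a (-1)<|a 1<|a 0<|b)<|c (a 0<|a 0<|a (-1)<|a 1<|a (-1)<|a 1<|a 0<|a 0<|b)<|c (a 1<|a 0<|a 0<|a 0<|a 0<|a (-1)<|a 1<|a 0<|b)<|c (a (-1)<|a 0<|a 1<|a 0<|a (-1)<|a 1<|a 0<|a 0<|b)<|e);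
 (c (a (-1)<|a 0<|a 1<|a 0<|a 0<|a 0<|a (-1)<|a 1<|b)<|c (a 0<|a 0<|a (-1)<|a 1<|a 0<|a (-1)<|a 1<|a 0<|b)<|c (a 0<|a 1<|a 0<|a (-1)<|a 0<|a 1<|a 0<|a 0<|b)<|c (a 1<|a 0<|a 0<|a 0<|a 0<|a 0<|a (-1)<|a 1<|b)<|e));
 (c (a 0<|a 1<|a 0<|a 0<|a (-1)<|a 0<|a 1<|a 0<|b)<|c (a 0<|a (-1)<|a 0<|a 0<|a 1<|a (-1)<|a 1<|a 0<|b)<|c (a (-1)<|a 0<|a 1<|a 0<|a 0<|a 0<|a 0<|a (-1)<|b)<|c (a 0<|a 0<|a (-1)<|a 1<|a 0<|a 0<|a (-1)<|a 1<|b)<|c (a 0<|a 1<|a 0<|a (-1)<|a 1<|a (-1)<|a 1<|a 0<|b)<|c (a 0<|a (-1)<|a 0<|a 0<|a 0<|a 1<|a 0<|a 0<|b)<|c (a 1<|a 0<|a 0<|a 0<|a 0<|a 0<|a 0<|a (-1)<|b)<|e)));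
 (let e:=(let e:=(let e:=(c (a 0<|a (-1)<|a 0<|a 0<|a 1<|a 0<|a (-1)<|a 1<|b)<|c (a 0<|a (-1)<|a 0<|a 1<|a (-1)<|a 0<|a 1<|a 0<|b)<|c (a 0<|a 0<|a (-1)<|a 1<|a 0<|a 0<|a 0<|a (-1)<|b)<|c (a 0<|a 1<|a 0<|a (-1)<|a 1<|a 0<|a (-1)<|a 1<|b)<|e);
 (c (a 0<|a (-1)<|a 0<|a 1<|a (-1)<|a 1<|a (-1)<|a 1<|b)<|c (a 0<|a 0<|a 1<|a (-1)<|a 0<|a 0<|a 1<|a 0<|b)<|c (a 0<|a 1<|a 0<|a (-1)<|a 1<|a 0<|a 0<|a (-1)<|b)<|c (a 0<|a 1<|a 0<|a 0<|a (-1)<|a 1<|a (-1)<|a 1<|b)<|e));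
 (c (a 0<|a (-1)<|a 0<|a 1<|a (-1)<|a 1<|a 0<|a (-1)<|b)<|c (a 0<|a (-1)<|a 0<|a 1<|a 0<|a (-1)<|a 0<|a 1<|b)<|c (a 0<|a 0<|a 1<|a (-1)<|a 0<|a 1<|a (-1)<|a 1<|b)<|c (a 1<|a 0<|a (-1)<|a 0<|a 0<|a 0<|a 1<|a 0<|b)<|c (a 0<|a 1<|a 0<|a 0<|a (-1)<|a 1<|a 0<|a (-1)<|b)<|c (a 0<|a 1<|a 0<|a 0<|a 0<|a (-1)<|a 0<|a 1<|b)<|c (a 0<|a (-1)<|a 0<|a 0<|a 1<|a 0<|a 0<|a (-1)<|b)<|e));
 (let e:=(let e:=(c (a 0<|a 0<|a 1<|a (-1)<|a 1<|a (-1)<|a 0<|a 1<|b)<|c (a 1<|a 0<|a (-1)<|a 0<|a 0<|a 1<|a (-1)<|a 1<|b)<|c (a (-1)<|a 0<|a 0<|a 0<|a 0<|a 0<|a 1<|a 0<|b)<|c (a 0<|a 1<|a 0<|a 0<|a 0<|a (-1)<|a 1<|a (-1)<|b)<|e);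
 (c (a (-1)<|a 0<|a 0<|a 0<|a 0<|a 1<|a (-1)<|a 1<|b)<|c (a 0<|a 1<|a 0<|a 0<|a 0<|a 0<|a (-1)<|a 0<|b)<|c (a 0<|a (-1)<|a 0<|a 1<|a 0<|a (-1)<|a 1<|a (-1)<|b)<|c (a 0<|a 0<|a 1<|a (-1)<|a 0<|a 1<|a 0<|a (-1)<|b)<|e));
 (d (a (-1)<|a 0<|a 0<|a 0<|a 0<|a 1<|a 0<|a (-1)<|b)<|d (a (-1)<|a 0<|a 0<|a 0<|a 1<|a (-1)<|a 0<|a 1<|b)<|d (a 0<|a (-1)<|a 0<|a 1<|a 0<|a 0<|a (-1)<|a 0<|b)<|d (a 0<|a 0<|a 1<|a (-1)<|a 1<|a (-1)<|a 1<|a (-1)<|b)<|d (a 0<|a 0<|a 1<|a 0<|a (-1)<|a 0<|a 0<|a 1<|b)<|d (a 1<|a 0<|a (-1)<|a 0<|a 0<|a 1<|a 0<|a (-1)<|b)<|d (a 1<|a 0<|a (-1)<|a 0<|a 1<|a (-1)<|a 0<|a 1<|b)<|e))))) (by decide +kernel)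

theorem index_F4 {W : Type*} [Group W] [Finite W] (cs : CoxeterSystem CoxeterMatrix.F₄ W) {J : Set (Fin 4)} {i : Fin 4} (hi : i ∉ J) :
    24 ≤ (WJ cs J).index := by
  fin_cases i
  · exact index_ge cs Nodes.RGDTwE6.isCartan hi (beta% delta% lq26aa79e2a5 fun a b _ d _ _ h =>
 (d (a (-1)<|a 0<|a 0<|a 0<|b)<|d (a 1<|a (-1)<|a 0<|a 0<|b)<|d (a 0<|a 1<|a (-1)<|a 0<|b)<|d (a 0<|a (-1)<|a 1<|a (-1)<|b)<|d (a (-1)<|a 1<|a 0<|a (-1)<|b)<|d (a 0<|a (-1)<|a 0<|a 1<|b)<|d (a 1<|a 0<|a 0<|a (-1)<|b)<|d (a (-1)<|a 1<|a (-1)<|a 1<|b)<|d (a 1<|a 0<|a (-1)<|a 1<|b)<|d (a (-1)<|a (-1)<|a 1<|a 0<|b)<|d (a (-2)<|a 1<|a 0<|a 0<|b)<|d (a 1<|a (-2)<|a 1<|a 0<|b)<|d (a 2<|a (-1)<|a 0<|a 0<|b)<|d (a (-1)<|a 2<|a (-1)<|a 0<|b)<|d (a 1<|a 1<|a (-1)<|a 0<|b)<|d (a (-1)<|a 0<|a 1<|a (-1)<|b)<|d (a 1<|a (-1)<|a 1<|a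 (-1)<|b)<|d (a (-1)<|a 0<|a 0<|a 1<|b)<|d (a 0<|a 1<|a 0<|a (-1)<|b)<|d (a 1<|a (-1)<|a 0<|a 1<|b)<|d (a 0<|a 1<|a (-1)<|a 1<|b)<|d (a 0<|a (-1)<|a 1<|a 0<|b)<|d (a (-1)<|a 1<|a 0<|a 0<|b)<|d (a 1<|a 0<|a 0<|a 0<|b)<|h)) (by decide +kernel)
  · exact index_ge cs Nodes.RGDTwE6.isCartan hi (beta% delta% lq26aa79e2a5 fun a b _ d _ _ h =>
 (d (a (-1)<|a 1<|a 1<|a (-2)<|b)<|d (a 0<|a (-1)<|a 0<|a 2<|b)<|d (a 3<|a (-1)<|a 0<|a 0<|b)<|d (a (-2)<|a 3<|a (-1)<|a 0<|b)<|d (a 1<|a 2<|a (-2)<|a 1<|b)<|d (a 1<|a 0<|a 1<|a (-2)<|b)<|d (a (-1)<|a (-1)<|a 2<|a (-1)<|b)<|d (a (-1)<|a 1<|a (-1)<|a 2<|b)<|d (a 2<|a 1<|a (-1)<|a 0<|b)<|d (a (-2)<|a 1<|a 1<|a (-1)<|b)<|d (a 1<|a (-2)<|a 2<|a (-1)<|b)<|d (a 1<|a 0<|a (-1)<|a 2<|b)<|d (a (-1)<|a (-1)<|a 1<|a 1<|b)<|d (a 2<|a (-1)<|a 1<|a (-1)<|b)<|d (a (-2)<|a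 1<|a 0<|a 1<|b)<|d (a (-1)<|a 2<|a 0<|a (-1)<|b)<|d (a 1<|a (-2)<|a 1<|a 1<|b)<|d (a 1<|a 1<|a 0<|a (-1)<|b)<|d (a 2<|a (-1)<|a 0<|a 1<|b)<|d (a (-1)<|a 2<|a (-1)<|a 1<|b)<|d (a 1<|a 1<|a (-1)<|a 1<|b)<|d (a (-1)<|a 0<|a 1<|a 0<|b)<|d (a 1<|a (-1)<|a 1<|a 0<|b)<|d (a 0<|a 1<|a 0<|a 0<|b)<|h)) (by decide +kernel)
  · exact index_ge cs Nodes.RGDTwE6.isCartan hi (beta% delta% lq26aa79e2a5 fun a b _ d _ _ h =>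
 (d (a 0<|a 4<|a (-3)<|a 1<|b)<|d (a 0<|a 0<|a 2<|a (-3)<|b)<|d (a (-4)<|a 2<|a 0<|a 1<|b)<|d (a 4<|a (-2)<|a 1<|a (-1)<|b)<|d (a 2<|a (-4)<|a 2<|a 1<|b)<|d (a (-2)<|a 4<|a (-1)<|a (-1)<|b)<|d (a 0<|a (-2)<|a 3<|a (-2)<|b)<|d (a 0<|a 0<|a (-1)<|a 3<|b)<|d (a 4<|a (-2)<|a 0<|a 1<|b)<|d (a 2<|a 2<|a (-1)<|a (-1)<|b)<|d (a (-2)<|a 4<|a (-2)<|a 1<|b)<|d (a (-2)<|a 2<|a 1<|a (-2)<|b)<|d (a 0<|a (-2)<|a 1<|a 2<|b)<|d (a 2<|a 2<|a (-2)<|a 1<|b)<|d (a 2<|a 0<|a 1<|a (-2)<|b)<|d (a (-2)<|a 0<|a 2<|a (-1)<|b)<|d (a (-2)<|a 2<|a (-1)<|a 2<|b)<|d (a 2<|a (-2)<|a 2<|a (-1)<|b)<|d (a 2<|a 0<|a (-1)<|a 2<|b)<|d (a (-2)<|a 0<|a 1<|a 1<|b)<|d (a 0<|a 2<|a 0<|a (-1)<|b)<|d (a 2<|a (-2)<|a 1<|a 1<|b)<|d (a 0<|a 2<|a (-1)<|a 1<|b)<|d (a 0<|a 0<|a 1<|a 0<|b)<|h)) (by decide +kernel)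
  · exact index_ge cs Nodes.RGDTwE6.isCartan hi (beta% delta% lq26aa79e2a5 fun a b _ d _ _ h =>
 (d (a 0<|a 0<|a 0<|a (-1)<|b)<|d (a 0<|a 0<|a (-1)<|a 1<|b)<|d (a 0<|a (-2)<|a 1<|a 0<|b)<|d (a (-2)<|a 2<|a (-1)<|a 0<|b)<|d (a 2<|a 0<|a (-1)<|a 0<|b)<|d (a (-2)<|a 0<|a 1<|a (-1)<|b)<|d (a (-2)<|a 0<|a 0<|a 1<|b)<|d (a 2<|a (-2)<|a 1<|a (-1)<|b)<|d (a 2<|a (-2)<|a 0<|a 1<|b)<|d (a 0<|a 2<|a (-1)<|a (-1)<|b)<|d (a 0<|a 2<|a (-2)<|a 1<|b)<|d (a 0<|a 0<|a 1<|a (-2)<|b)<|d (a 0<|a (-2)<|a 2<|a (-1)<|b)<|d (a 0<|a 0<|a (-1)<|a 2<|b)<|d (a (-2)<|a 2<|a 0<|a (-1)<|b)<|d (a 0<|a (-2)<|a 1<|a 1<|b)<|d (a 2<|a 0<|a 0<|a (-1)<|b)<|d (a (-2)<|a 2<|a (-1)<|a 1<|b)<|d (a 2<|a 0<|a (-1)<|a 1<|b)<|d (a (-2)<|a 0<|a 1<|a 0<|b)<|d (a 2<|a (-2)<|a 1<|a 0<|b)<|d (a 0<|a 2<|a (-1)<|a 0<|b)<|d (a 0<|a 0<|a 1<|a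 (-1)<|b)<|d (a 0<|a 0<|a 0<|a 1<|b)<|h)) (by decide +kernel)

theorem index_F4' {W : Type*} [Group W] [Finite W] (cs : CoxeterSystem CoxeterMatrix.F₄ W) {J : Set (Fin 4)} (hi : (1 : Fin 4) ∉ J) :
    96 ≤ (WJ cs J).index :=
  index_ge cs Nodes.RGDTwE6.isCartan hi (beta% delta% lq26aa79e2a5 fun a b _ d _ g h =>
 (let e:=(let e:=(let e:=(let e:=(g (a 2<|a (-1)<|a 0<|a 1<|b)<|g (a (-1)<|a 2<|a (-1)<|a 1<|b)<|g (a 1<|a 1<|a (-1)<|a 1<|b)<|g (a (-1)<|a 0<|a 1<|a 0<|b)<|g (a 1<|a (-1)<|a 1<|a 0<|b)<|g (a 0<|a 1<|a 0<|a 0<|b)<|h);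
 (g (a (-1)<|a (-1)<|a 1<|a 1<|b)<|g (a 2<|a (-1)<|a 1<|a (-1)<|b)<|g (a (-2)<|a 1<|a 0<|a 1<|b)<|g (a (-1)<|a 2<|a 0<|a (-1)<|b)<|g (a 1<|a (-2)<|a 1<|a 1<|b)<|g (a 1<|a 1<|a 0<|a (-1)<|b)<|e));
 (let e:=(g (a (-1)<|a (-1)<|a 2<|a (-1)<|b)<|g (a (-1)<|a 1<|a (-1)<|a 2<|b)<|g (a 2<|a 1<|a (-1)<|a 0<|b)<|g (a (-2)<|a 1<|a 1<|a (-1)<|b)<|g (a 1<|a (-2)<|a 2<|a (-1)<|b)<|g (a 1<|a 0<|a (-1)<|a 2<|b)<|e);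
 (g (a (-1)<|a 1<|a 1<|a (-2)<|b)<|g (a 0<|a (-1)<|a 0<|a 2<|b)<|g (a 3<|a (-1)<|a 0<|a 0<|b)<|g (a (-2)<|a 3<|a (-1)<|a 0<|b)<|g (a 1<|a 2<|a (-2)<|a 1<|b)<|g (a 1<|a 0<|a 1<|a (-2)<|b)<|e)));
 (let e:=(let e:=(g (a 0<|a (-1)<|a 2<|a (-2)<|b)<|g (a (-3)<|a 2<|a 0<|a 0<|b)<|g (a 1<|a (-3)<|a 2<|a 0<|b)<|g (a 3<|a (-2)<|a 0<|a 1<|b)<|g (a 1<|a 2<|a (-1)<|a (-1)<|b)<|g (a (-1)<|a 3<|a (-2)<|a 1<|b)<|e);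
 (g (a 1<|a 1<|a (-2)<|a 2<|b)<|g (a (-1)<|a (-2)<|a 2<|a 0<|b)<|g (a (-3)<|a 1<|a 0<|a 1<|b)<|g (a 3<|a (-2)<|a 1<|a (-1)<|b)<|g (a 2<|a (-3)<|a 1<|a 1<|b)<|g (a (-1)<|a 3<|a (-1)<|a (-1)<|b)<|e));
 (let e:=(g (a 3<|a 0<|a (-1)<|a 0<|b)<|g (a (-3)<|a 1<|a 1<|a (-1)<|b)<|g (a 2<|a (-1)<|a (-1)<|a 2<|b)<|g (a (-2)<|a (-1)<|a 1<|a 1<|b)<|g (a 2<|a (-3)<|a 2<|a (-1)<|b)<|g (a 0<|a 3<|a (-2)<|a 0<|b)<|e);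
 (g (a (-2)<|a 1<|a (-1)<|a 2<|b)<|g (a 2<|a 1<|a (-2)<|a 1<|b)<|g (a (-2)<|a (-1)<|a 2<|a (-1)<|b)<|g (a 3<|a (-3)<|a 1<|a 0<|b)<|g (a 1<|a 1<|a 0<|a (-2)<|b)<|g (a (-1)<|a 2<|a (-2)<|a 2<|b)<|e))));
 (let e:=(let e:=(let e:=(g (a 3<|a (-1)<|a (-1)<|a 1<|b)<|g (a (-3)<|a 0<|a 1<|a 0<|b)<|g (a (-1)<|a 2<|a 0<|a (-2)<|b)<|g (a 1<|a (-2)<|a 0<|a 2<|b)<|g (a (-3)<|a 3<|a (-1)<|a 0<|b)<|g (a 2<|a (-1)<|a 1<|a (-2)<|b)<|e);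
 (g (a 1<|a (-2)<|a 2<|a (-2)<|b)<|g (a 0<|a (-3)<|a 2<|a 0<|b)<|g (a (-2)<|a 1<|a 1<|a (-2)<|b)<|g (a (-1)<|a (-1)<|a 0<|a 2<|b)<|g (a 2<|a 1<|a (-1)<|a (-1)<|b)<|g (a (-2)<|a 3<|a (-2)<|a 1<|b)<|e));
 (let e:=(g (a 0<|a 1<|a (-2)<|a 2<|b)<|g (a (-1)<|a (-1)<|a 2<|a (-2)<|b)<|g (a (-2)<|a 3<|a (-1)<|a (-1)<|b)<|g (a 1<|a (-3)<|a 1<|a 1<|b)<|g (a 3<|a (-1)<|a 0<|a (-1)<|b)<|g (a (-3)<|a 2<|a (-1)<|a 1<|b)<|e);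
 (g (a (-1)<|a 3<|a (-2)<|a 0<|b)<|g (a 1<|a (-3)<|a 2<|a (-1)<|b)<|g (a 1<|a (-1)<|a (-1)<|a 2<|b)<|g (a (-3)<|a 2<|a 0<|a (-1)<|b)<|g (a (-1)<|a (-2)<|a 1<|a 1<|b)<|g (a 1<|a 2<|a (-2)<|a 0<|b)<|e)));
 (let e:=(let e:=(g (a 1<|a 1<|a (-2)<|a 1<|b)<|g (a 1<|a (-1)<|a 1<|a (-2)<|b)<|g (a (-1)<|a (-2)<|a 2<|a (-1)<|b)<|g (a (-1)<|a 0<|a (-1)<|a 2<|b)<|g (a 3<|a (-2)<|a 0<|a 0<|b)<|g (a 0<|a 1<|a 0<|a (-2)<|b)<|e);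
 (g (a 2<|a (-1)<|a (-1)<|a 1<|b)<|g (a 1<|a 1<|a (-1)<|a (-1)<|b)<|g (a (-1)<|a 2<|a (-2)<|a 1<|b)<|g (a (-1)<|a 0<|a 1<|a (-2)<|b)<|g (a (-3)<|a 1<|a 0<|a 0<|b)<|g (a 2<|a (-3)<|a 1<|a 0<|b)<|e));
 (let e:=(g (a 1<|a (-2)<|a 1<|a (-1)<|b)<|g (a (-2)<|a 1<|a (-1)<|a 1<|b)<|g (a 2<|a (-1)<|a 0<|a (-1)<|b)<|g (a 1<|a (-2)<|a 0<|a 1<|b)<|g (a (-1)<|a 2<|a (-1)<|a (-1)<|b)<|g (a (-2)<|a (-1)<|a 1<|a 0<|b)<|e);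
 (d (a 0<|a (-1)<|a 0<|a 0<|b)<|d (a (-1)<|a 1<|a (-1)<|a 0<|b)<|d (a 1<|a 0<|a (-1)<|a 0<|b)<|d (a (-1)<|a (-1)<|a 1<|a (-1)<|b)<|d (a (-2)<|a 1<|a 0<|a (-1)<|b)<|d (a (-1)<|a (-1)<|a 0<|a 1<|b)<|e)))))) (by decide +kernel)

/-- the orbit of type `0` -/
def LF : List (Fin 4 → ℤ) := (beta% delta% lq26aa79e2a5 fun a b _ d _ _ h =>
 (d (a (-1)<|a 0<|a 0<|a 0<|b)<|d (a 1<|a (-1)<|a 0<|a 0<|b)<|d (a 0<|a 1<|a (-1)<|a 0<|b)<|d (a 0<|a (-1)<|a 1<|a (-1)<|b)<|d (a (-1)<|a 1<|a 0<|a (-1)<|b)<|d (a 0<|a (-1)<|a 0<|a 1<|b)<|d (a 1<|a 0<|a 0<|a (-1)<|b)<|d (a (-1)<|a 1<|a (-1)<|a 1<|b)<|d (a 1<|a 0<|a (-1)<|a 1<|b)<|d (a (-1)<|a (-1)<|a 1<|a 0<|b)<|d (a (-2)<|a 1<|a 0<|a 0<|b)<|d (a 1<|a (-2)<|a 1<|a 0<|b)<|d (a 2<|a (-1)<|a 0<|a 0<|b)<|d (a (-1)<|a 2<|a (-1)<|a 0<|b)<|d (a 1<|a 1<|a (-1)<|a 0<|b)<|d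 (a (-1)<|a 0<|a 1<|a (-1)<|b)<|d (a 1<|a (-1)<|a 1<|a (-1)<|b)<|d (a (-1)<|a 0<|a 0<|a 1<|b)<|d (a 0<|a 1<|a 0<|a (-1)<|b)<|d (a 1<|a (-1)<|a 0<|a 1<|b)<|d (a 0<|a 1<|a (-1)<|a 1<|b)<|d (a 0<|a (-1)<|a 1<|a 0<|b)<|d (a (-1)<|a 1<|a 0<|a 0<|b)<|d (a 1<|a 0<|a 0<|a 0<|b)<|h))

theorem chn_LF : chn Nodes.RGDTwE6.A (Pi.single 0 1) LF = true := by decide +kernel

theorem LF_pos : (LF.filter fun v => decide (0 < v 3)).length = 6 := by decide +kernel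

theorem LF_zero : (LF.filter fun v => decide (v 3 = 0)).length = 12 := by decide +kernel

end Cfsg.Agent.H2.Ppd

private theorem dce_fba10d44cce1 : _root_.True := by
  try have : _root_.True := by simp only [_root_.Cfsg.Agent.H2.Ppd.chn.eq_def]
  exact _root_.True.intro
end

-- part: H2/Ppd/Main
section
prune_inst 0x200000000000000000000000000100000400000000000000000000034000800000000000000000100000000000000000000000000000140000000008000000000080000000000000000000000000000000000000000000000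
set_option linter.all false
open scoped Cfsg.Agent.FastGrp

-- part: H2/Ppd/Num
section
/-!
# Digits and fields of definition (helper2)

* **`two_pow_le_card_SS`** : `1 ≤ r ≤ p^b - 1`, `p^b - 1 ∣ r (p^a - 1)` : `2^(b / gcd a b) ≤ |SS p r|`;
* `sum_le_fix` : the count of `H392.TD.sum_le` with fixed vectors.
-/

set_option autoImplicit false
set_option linter.unusedSectionVars false
set_option linter.style.haveILetI false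

namespace Cfsg.Agent.H2.Ppd

open Cfsg.Agent.H875.Fn Cfsg.Agent.H392.TD Matrix
open Cfsg.Agent.H911.SLTwo (U Lo hh ww)

theorem pow_sub_one_eq {m : ℕ} (hm : 1 ≤ m) (s : ℕ) : m ^ s - 1 = (∑ i ∈ Finset.range s, m ^ i) * (m - 1) := by
  have h1 : (∑ i ∈ Finset.range s, m ^ i) * (m - 1) + 1 = m ^ s := by
    induction s with
    | zero => simp
    | succ s ih =>
      rw [Finset.sum_range_succ, add_mul]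
      obtain ⟨c, rfl⟩ : ∃ c, m = c + 1 := ⟨m - 1, by omega⟩
      rw [Nat.add_sub_cancel] at ih ⊢
      rw [pow_succ (c + 1) s]
      linarith only [ih]
  omega

theorem two_pow_le_card_SS {p : ℕ} [hp : Fact p.Prime] {a b r : ℕ} (ha : 0 < a) (hr0 : r ≠ 0)
    (hr : r ≤ p ^ b - 1) (hd : p ^ b - 1 ∣ r * (p ^ a - 1)) : 2 ^ (b / Nat.gcd a b) ≤ (SS p r).card := by
  have hp1 := hp.out.one_lt
  set g := Nat.gcd a b with hg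
  have hg0 : 0 < g := Nat.gcd_pos_of_pos_left _ ha
  obtain ⟨s, hs⟩ : g ∣ b := Nat.gcd_dvd_right a b
  have hbg : b / g = s := by rw [hs, Nat.mul_div_cancel_left _ hg0]
  have hpg : 1 ≤ p ^ g := Nat.one_le_pow _ _ (by omega)
  have hpg' : 0 < p ^ g - 1 := by
    have : 1 < p ^ g := Nat.one_lt_pow hg0.ne' hp1
    omega
  have h1 : p ^ b - 1 ∣ r * (p ^ g - 1) := by
    have h2 := Nat.dvd_gcd hd (Dvd.intro_left r rfl : p ^ b - 1 ∣ r * (p ^ b - 1))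
    rwa [Nat.gcd_mul_left, Nat.pow_sub_one_gcd_pow_sub_one] at h2
  have h3 : p ^ b - 1 = (∑ i ∈ Finset.range s, (p ^ g) ^ i) * (p ^ g - 1) := by
    rw [hs, pow_mul, pow_sub_one_eq hpg]
  rw [h3] at h1 hr
  obtain ⟨c, hc⟩ := Nat.dvd_of_mul_dvd_mul_right hpg' h1
  have hG : 0 < ∑ i ∈ Finset.range s, (p ^ g) ^ i := by
    rcases Nat.eq_zero_or_pos (∑ i ∈ Finset.range s, (p ^ g) ^ i) with h0 | h0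
    · rw [h0, zero_mul] at hr
      omega
    · exact h0
  have hc0 : c ≠ 0 := by
    rintro rfl
    rw [mul_zero] at hc
    exact hr0 hc
  have hcl : c < p ^ g := by
    have h4 : c ≤ p ^ g - 1 := by
      refine Nat.le_of_mul_le_mul_left ?_ hG
      rw [← hc]
      exact hr
    omega
  rw [hbg, hc, mul_comm, card_SS_geom hcl s]
  exact Nat.pow_le_pow_left (two_le_card_SS hc0) s

section emb

universe u v w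

variable {E : Type u} [Field E] [Fintype E] {k : Type v} [Field k] (j : E →+* k) {V : Type w} [AddCommGroup V]
  [Module k V] [FiniteDimensional k V] {Q : _root_.Matrix.SpecialLinearGroup (Fin 2) E →* Module.End k V}
  (p : ℕ) [hp : Fact p.Prime] [CharP k p]

/-- **The count with fixed vectors.** -/
theorem sum_le_fix {α β : Type} [Fintype α] [DecidableEq α] [Fintype β] [DecidableEq β] (v : α → V)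
    (φ : α → Module.Dual k V) (r : α → ℕ)
    (hr0 : ∀ a, r a ≠ 0) (hr : ∀ a, r a ≤ Fintype.card E - 1)
    (hLo : ∀ a t x, φ a (Q (Lo t) x) = φ a x) (hU : ∀ a t, Q (U t) (v a) = v a)
    (hh' : ∀ a (s : Eˣ), Q (hh s) (v a) = (j (s : E) ^ r a) • v a)
    (h1 : ∀ a, φ a (v a) ≠ 0) (h2 : ∀ a b, a ≠ b → φ a (v b) = 0) (h3 : ∀ a b, φ a (Q ww (v b)) = 0)
    (u : β → V) (ψ : β → Module.Dual k V) (k1 : ∀ b, ψ b (u b) ≠ 0) (k2 : ∀ b b', b ≠ b' → ψ b (u b') = 0)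
    (k3 : ∀ b g, Q g (u b) = u b) (k4 : ∀ a b, φ a (u b) = 0) :
    ∑ a, (SS p (r a)).card + Fintype.card β ≤ Module.finrank k V := by
  set S : Submodule k V := Submodule.span k (Set.range u) with hS
  have hSQ : ∀ g, S ≤ S.comap (Q g) := by
    intro g
    rw [hS, Submodule.span_le]
    rintro _ ⟨b, rfl⟩
    have h0 : Q g (u b) ∈ S := by
      rw [k3, hS]
      exact Submodule.subset_span ⟨b, rfl⟩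
    exact h0
  have hSφ : ∀ a, S ≤ LinearMap.ker (φ a) := by
    intro a
    rw [hS, Submodule.span_le]
    rintro _ ⟨b, rfl⟩
    exact k4 a b
  have hind : LinearIndependent k u := by
    rw [Fintype.linearIndependent_iff]
    intro c hc b
    have h5 := congrArg (ψ b) hc
    rw [map_sum, map_zero, Finset.sum_eq_single b (fun b' _ hb => by
      rw [map_smul, k2 b b' (Ne.symm hb), smul_zero]) (fun h => absurd (Finset.mem_univ b) h), map_smul,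
      smul_eq_mul, mul_eq_zero] at h5
    exact h5.resolve_right (k1 b)
  have hcard : Module.finrank k S = Fintype.card β := finrank_span_eq_card hind
  let Q' : _root_.Matrix.SpecialLinearGroup (Fin 2) E →* Module.End k (V ⧸ S) :=
    { toFun := fun g => S.mapQ S (Q g) (hSQ g)
      map_one' := by
        ext x
        rw [LinearMap.comp_apply, LinearMap.comp_apply, Submodule.mkQ_apply, Submodule.mapQ_apply, map_one]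
        rfl
      map_mul' := fun g g' => by
        ext x
        rw [LinearMap.comp_apply, LinearMap.comp_apply, Submodule.mkQ_apply, Submodule.mapQ_apply, map_mul]
        rfl }
  have hQ' : ∀ g x, Q' g (S.mkQ x) = S.mkQ (Q g x) := fun g x => rfl
  have key := sum_le (j := j) (Q := Q') p (fun a => S.mkQ (v a)) (fun a => S.liftQ (φ a) (hSφ a)) r hr0 hr
    (fun a t x => by
      obtain ⟨x, rfl⟩ := S.mkQ_surjective x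
      rw [hQ', Submodule.mkQ_apply, Submodule.mkQ_apply, Submodule.liftQ_apply, Submodule.liftQ_apply]
      exact hLo a t x)
    (fun a t => by rw [hQ', hU]) (fun a s => by rw [hQ', hh', map_smul])
    (fun a => by rw [Submodule.mkQ_apply, Submodule.liftQ_apply]; exact h1 a)
    (fun a b hab => by rw [Submodule.mkQ_apply, Submodule.liftQ_apply]; exact h2 a b hab)
    (fun a b => by rw [hQ', Submodule.mkQ_apply, Submodule.liftQ_apply]; exact h3 a b)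
  have h6 := S.finrank_quotient_add_finrank
  omega

end emb

end Cfsg.Agent.H2.Ppd
end

-- part: H2/Ppd/Levi
section
/-!
# The count of the weights at one node, one node outside `J` (helper2)
-/

set_option autoImplicit false
set_option linter.unusedSectionVars false
set_option linter.style.haveILetI false

namespace Cfsg.Agent.H2.Ppd

open Matrix CoxeterSystem Cfsg.Agent.ChevalleyStructure.CoxeterGeom Cfsg.Agent.Tits.Roots Cfsg.Agent.Tits.Core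
  Cfsg.Agent.Tits.Exchange Cfsg.Agent.Nodes.Reps Cfsg.Agent.Nodes.BNOf Cfsg.Agent.Nodes.StabComb
  Cfsg.Agent.Nodes.Bruhat Cfsg.Agent.Nodes.OppDec Cfsg.Agent.Nodes.LeviDec Cfsg.Agent.KFacts.RgdOpp
  Cfsg.Agent.Omega.CR Cfsg.Agent.Omega.FOne.Lift.Sd Cfsg.Agent.H905.Md
open Cfsg.Agent.H875.Fn Cfsg.Agent.H392.TD Cfsg.Agent.H905.DC
open Cfsg.Agent.H911.SLTwo (U Lo hh ww)
open scoped MatrixGroups

variable {I W Y : Type*} [Fintype I] [DecidableEq I] [Group W] [Group Y] {M : CoxeterMatrix I}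
  {cs : CoxeterSystem M W} {A : I → I → ℤ} {h : IsCartan M A} {p : ℕ} {T : Subgroup Y} {n : I → Y}
  {X : (I → ℤ) → Subgroup Y}

variable {E : Type*} [Field E] [Fintype E] {k V : Type*} [Field k] (j : E →+* k) [AddCommGroup V] [Module k V]

theorem closure_U_Lo {E : Type*} [Field E] {S : Subgroup SL(2, E)} (hU : ∀ t, U t ∈ S) (hLo : ∀ t, Lo t ∈ S)
    (g : SL(2, E)) : g ∈ S := by
  have h1 := Cfsg.Agent.ChevalleyStructure.SL2Hom.mem_closure_SL2 g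
  refine (Subgroup.closure_le S).2 ?_ h1
  rintro _ (⟨t, rfl⟩ | ⟨t, rfl⟩)
  · exact hU t
  · exact hLo t

theorem co_ne {cs : CoxeterSystem M W} {A : I → I → ℤ} {h : IsCartan M A} {J : Set I} {i₀ : I} (hi : i₀ ∉ J) {w w' : W}
    (hne : co cs h i₀ w ≠ co cs h i₀ w') : w * w'⁻¹ ∉ WJ cs J := by
  intro hmem
  apply hne
  have h1 := co_mul_left cs h hi hmem w'
  rwa [inv_mul_cancel_right] at h1

variable (R : RGD cs h p T n X) [Finite Y] [Finite W] [Fact p.Prime] [CharP k p]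
  {ρ : Y →* Module.End k V} [FiniteDimensional k V] [Nontrivial V]
  (hirr : ∀ L : Submodule k V, Ivt ρ (GG cs h T X) L → L = ⊥ ∨ L = ⊤)
include R hirr

/-- **The count at one node.** -/
theorem levi_count {i₀ : I} (hi₀ : i₀ ∉ Jx cs h X ρ) (hJ : ∀ i, i ∉ Jx cs h X ρ → i = i₀) {i : I}
    (θ : _root_.Matrix.SpecialLinearGroup (Fin 2) E →* Y) (hU : ∀ t, θ (U t) ∈ X (sr i))
    (hLo : ∀ t, θ (Lo t) ∈ X (-sr i)) (hww : Rp cs R.nsys (cs.simple i) (θ ww)) {c : V} (hc : c ∈ D cs h X ρ)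
    (hc0 : c ≠ 0) (La Lb : List (I → ℤ)) (hLa : ∀ v ∈ La, 0 < v i) (hLb : ∀ v ∈ Lb, v i = 0) (hnda : La.Nodup)
    (hndb : Lb.Nodup) (hexa : ∀ v ∈ La, ∃ w, co cs h i₀ w = v) (hexb : ∀ v ∈ Lb, ∃ w, co cs h i₀ w = v) (m : ℕ)
    (hwt : ∀ (w : W) (g : Y), Rp cs R.nsys w g → ∃ r : ℕ, r ≠ 0 ∧ r ≤ Fintype.card E - 1 ∧ m ≤ (SS p r).card ∧
      ∀ s : Eˣ, ρ (g⁻¹ * θ (hh s) * g) c = (j (s : E) ^ r) • c) :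
    La.length * m + Lb.length ≤ Module.finrank k V := by
  classical
  obtain ⟨φ₀, hφ₀, hne⟩ := exists_pair_D R hirr hc hc0
  have hUN : ∀ u ∈ UN cs h X, ∀ x, φ₀ (ρ u x) = φ₀ x := fun u hu x => dual_fx_pair R hφ₀ hu x
  have key : ∀ (a b : Y) (x : V), ρ (a * b) x = ρ a (ρ b x) := rho_mul ρ
  choose wa hwa using fun a : Fin La.length => hexa (La.get a) (List.get_mem La a)
  choose wb hwb using fun b : Fin Lb.length => hexb (Lb.get b) (List.get_mem Lb b)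
  have hLa' : ∀ a, 0 < co cs h i₀ (wa a) i := fun a => by rw [hwa]; exact hLa _ (List.get_mem La a)
  have hLb' : ∀ b, co cs h i₀ (wb b) i = 0 := fun b => by rw [hwb]; exact hLb _ (List.get_mem Lb b)
  have hinja : ∀ a a', a ≠ a' → co cs h i₀ (wa a) ≠ co cs h i₀ (wa a') := by
    intro a a' haa e
    rw [hwa, hwa] at e
    exact haa (List.nodup_iff_injective_get.1 hnda e)
  have hinjb : ∀ a a', a ≠ a' → co cs h i₀ (wb a) ≠ co cs h i₀ (wb a') := by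
    intro a a' haa e
    rw [hwb, hwb] at e
    exact haa (List.nodup_iff_injective_get.1 hndb e)
  choose ga hga using fun a => exists_rp cs R.nsys (wa a)⁻¹
  choose gb hgb using fun b => exists_rp cs R.nsys (wb b)⁻¹
  have hpos : ∀ a, 0 ≤ rep cs h ((wa a)⁻¹)⁻¹ (sr i) := by
    intro a
    rw [inv_inv]
    rcases ((isRoot_sr cs h i).act (wa a)).pos_or_neg with h1 | h1
    · exact h1
    · exfalso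
      have h2 := h1 i₀
      have h3 := hLa' a
      unfold co at h3
      have h4 : rep cs h (wa a) (sr i) i₀ ≤ 0 := h2
      omega
  have hroot : ∀ b, rep cs h ((wb b)⁻¹)⁻¹ (sr i) ∈ RootsJ cs h (Jx cs h X ρ) := by
    intro b
    refine ⟨(isRoot_sr cs h i).act _, fun k hk => ?_⟩
    rw [hJ k hk, inv_inv]
    exact hLb' b
  choose r hr0 hr hrm hχ using fun a => hwt _ _ (hga a)
  have hsum : La.length * m ≤ ∑ a, (SS p (r a)).card := by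
    calc La.length * m = ∑ _a : Fin La.length, m := by rw [Finset.sum_const, Finset.card_univ, Fintype.card_fin, smul_eq_mul]
      _ ≤ _ := Finset.sum_le_sum fun a _ => hrm a
  have hfire : ∀ a a', (((wa a)⁻¹)⁻¹) * (cs.simple i * (wa a')⁻¹) ∉ WJ cs (Jx cs h X ρ) := by
    intro a a'
    rw [inv_inv, ← mul_assoc]
    refine co_ne (h := h) hi₀ (fun e => ?_)
    have h1 := congrFun e i
    rw [co_mul_simple] at h1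
    have h2 : co cs h i₀ (wa a) i - A i i * co cs h i₀ (wa a) i = co cs h i₀ (wa a') i := h1
    rw [h.diag] at h2
    have h3 := hLa' a
    have h4 := hLa' a'
    omega
  have key2 := sum_le_fix (Q := ρ.comp θ) (j := j) p (fun a => ρ (ga a) c) (fun a => dualRep ρ (ga a) φ₀) r hr0 hr
    (by
      intro a t x
      change φ₀ (ρ (ga a)⁻¹ (ρ (θ (Lo t)) x)) = φ₀ (ρ (ga a)⁻¹ x)
      have h3 := R.conj_mem' (hga a) (isRoot_sr cs h i).neg (hLo t)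
      have h4 : rep cs h ((wa a)⁻¹)⁻¹ (-sr i) ≤ 0 := by
        rw [map_neg]
        exact neg_nonpos.2 (hpos a)
      have h5 := X_le_UN ((isRoot_sr cs h i).neg.act ((wa a)⁻¹)⁻¹) h4 h3
      rw [← key, ← hUN _ h5 (ρ (ga a)⁻¹ x), ← key]
      congr 2
      group)
    (by
      intro a t
      change ρ (θ (U t)) (ρ (ga a) c) = ρ (ga a) c
      have h3 := R.conj_mem' (hga a) (isRoot_sr cs h i) (hU t)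
      have h5 : (ga a)⁻¹ * θ (U t) * ga a ∈ RGD.Sup X (RGD.Pos cs h) :=
        RGD.le_Sup (S := RGD.Pos cs h) ⟨(isRoot_sr cs h i).act ((wa a)⁻¹)⁻¹, hpos a⟩ h3
      have h6 : ρ (ga a) (ρ ((ga a)⁻¹ * θ (U t) * ga a) c) = ρ (ga a) c := by rw [hc _ h5]
      rw [← key] at h6 ⊢
      rw [← h6]
      congr 2
      group)
    (by
      intro a s
      change ρ (θ (hh s)) (ρ (ga a) c) = _
      have h3 := congrArg (ρ (ga a)) (hχ a s)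
      rw [← key, map_smul] at h3
      rw [← h3, ← key]
      congr 2
      group)
    (by
      intro a
      change φ₀ (ρ (ga a)⁻¹ (ρ (ga a) c)) ≠ 0
      rw [rho_inv_rho]
      exact hne)
    (by
      intro a b hab
      change φ₀ (ρ (ga a)⁻¹ (ρ (ga b) c)) = 0
      by_contra hcon
      rw [← key] at hcon
      have h6 := mem_WJ_of_pair R hirr hφ₀ ((hga a).inv.mul (hga b)) hc hcon
      rw [inv_inv] at h6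
      exact co_ne (h := h) hi₀ (hinja a b hab) h6)
    (by
      intro a b
      change φ₀ (ρ (ga a)⁻¹ (ρ (θ ww) (ρ (ga b) c))) = 0
      by_contra hcon
      rw [← key, ← key, mul_assoc] at hcon
      exact hfire a b (mem_WJ_of_pair R hirr hφ₀ ((hga a).inv.mul (hww.mul (hga b))) hc hcon))
    (fun b => ρ (gb b) c) (fun b => dualRep ρ (gb b) φ₀)
    (by
      intro b
      change φ₀ (ρ (gb b)⁻¹ (ρ (gb b) c)) ≠ 0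
      rw [rho_inv_rho]
      exact hne)
    (by
      intro a b hab
      change φ₀ (ρ (gb a)⁻¹ (ρ (gb b) c)) = 0
      by_contra hcon
      rw [← key] at hcon
      have h6 := mem_WJ_of_pair R hirr hφ₀ ((hgb a).inv.mul (hgb b)) hc hcon
      rw [inv_inv] at h6
      exact co_ne (h := h) hi₀ (hinjb a b hab) h6)
    (by
      intro b g
      change ρ (θ g) (ρ (gb b) c) = ρ (gb b) c
      let K : Subgroup SL(2, E) :=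
        { carrier := {g | ρ (θ g) (ρ (gb b) c) = ρ (gb b) c}
          one_mem' := by
            change ρ (θ 1) (ρ (gb b) c) = ρ (gb b) c
            rw [map_one, rho_one]
          mul_mem' := fun {x y} hx hy => by
            change ρ (θ (x * y)) (ρ (gb b) c) = ρ (gb b) c
            rw [map_mul, rho_mul, show ρ (θ y) (ρ (gb b) c) = ρ (gb b) c from hy]
            exact hx
          inv_mem' := fun {x} hx => by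
            change ρ (θ x⁻¹) (ρ (gb b) c) = ρ (gb b) c
            conv_lhs => rw [← show ρ (θ x) (ρ (gb b) c) = ρ (gb b) c from hx]
            rw [map_inv]
            exact rho_inv_rho ρ _ _ }
      have hfix : ∀ y : Y, (gb b)⁻¹ * y * gb b ∈ X (rep cs h ((wb b)⁻¹)⁻¹ (sr i)) ∨
          (gb b)⁻¹ * y * gb b ∈ X (rep cs h ((wb b)⁻¹)⁻¹ (-sr i)) → ρ y (ρ (gb b) c) = ρ (gb b) c := by
        intro y hy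
        have h6 : ρ ((gb b)⁻¹ * y * gb b) c = c := by
          rcases hy with hy | hy
          · exact X_fix_J R hirr (hroot b) hy hc
          · rw [map_neg] at hy
            exact X_fix_J R hirr (RootsJ.neg (hroot b)) hy hc
        have h7 := congrArg (ρ (gb b)) h6
        rw [← key] at h7
        have e : y * gb b = gb b * ((gb b)⁻¹ * y * gb b) := by group
        rw [← key, e]
        exact h7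
      exact closure_U_Lo (S := K) (fun t => hfix _ (Or.inl (R.conj_mem' (hgb b) (isRoot_sr cs h i) (hU t))))
        (fun t => hfix _ (Or.inr (R.conj_mem' (hgb b) (isRoot_sr cs h i).neg (hLo t)))) g)
    (by
      intro a b
      change φ₀ (ρ (ga a)⁻¹ (ρ (gb b) c)) = 0
      by_contra hcon
      rw [← key] at hcon
      have h6 := mem_WJ_of_pair R hirr hφ₀ ((hga a).inv.mul (hgb b)) hc hcon
      rw [inv_inv] at h6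
      refine co_ne (h := h) hi₀ (fun e => ?_) h6
      have h7 := congrFun e i
      have h8 := hLa' a
      rw [h7, hLb'] at h8
      exact absurd h8 (lt_irrefl 0))
  rw [Fintype.card_fin] at key2
  omega

end Cfsg.Agent.H2.Ppd
end

-- part: H2/Ppd/Edge
section
/-!
# Simple modules in the defining characteristic: the edges of one type (helper2)

* `ES` : the stabiliser of the edge of type `i`, `|ES| ≤ 2 |W_J|`;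
* **`edge_bound`** : `i ∉ J`, `dim V^U = 1`: `|W : W_J| * dim Le {i} ≤ 2 dim V`.
-/

set_option autoImplicit false
set_option linter.unusedSectionVars false
set_option linter.style.haveILetI false

namespace Cfsg.Agent.H2.Ppd

open CoxeterSystem Cfsg.Agent.ChevalleyStructure.CoxeterGeom Cfsg.Agent.Tits.Roots Cfsg.Agent.Tits.Core
  Cfsg.Agent.Tits.Exchange Cfsg.Agent.Nodes.Reps Cfsg.Agent.Nodes.BNOf Cfsg.Agent.Nodes.StabComb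
  Cfsg.Agent.Nodes.Bruhat Cfsg.Agent.Nodes.OppDec Cfsg.Agent.Nodes.LeviDec Cfsg.Agent.KFacts.RgdOpp
  Cfsg.Agent.Omega.CR Cfsg.Agent.Omega.FOne.Lift.Sd Cfsg.Agent.H905.Md

variable {I W : Type*} [Fintype I] [DecidableEq I] [Group W] {M : CoxeterMatrix I}
  {cs : CoxeterSystem M W} {A : I → I → ℤ} {h : IsCartan M A}

theorem comm_of_rep {w : W} {i : I} (hw : rep cs h w (sr i) = sr i) : w * cs.simple i = cs.simple i * w := by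
  have h1 := Cfsg.Agent.OddHalf.NI.Mult.mul_simple_of_rep (cs := cs) (h := h) hw
  rwa [mul_inv_eq_iff_eq_mul] at h1

theorem comm_of_rep_neg {w : W} {i : I} (hw : rep cs h w (sr i) = -sr i) : w * cs.simple i = cs.simple i * w := by
  have h1 : rep cs h (w * cs.simple i) (sr i) = sr i := by
    rw [rep_mul_apply, rep_simple_sr, map_neg, hw, neg_neg]
  have h2 := comm_of_rep h1
  have h3 : w * cs.simple i * cs.simple i = cs.simple i * w * cs.simple i := by rw [h2, mul_assoc]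
  exact mul_right_cancel h3

/-- the stabiliser of the edge of type `i` -/
def ES (cs : CoxeterSystem M W) (h : IsCartan M A) (J : Set I) (i : I) : Subgroup W where
  carrier := {w | (rep cs h w (sr i) = sr i ∧ w ∈ WJ cs J) ∨ (rep cs h w (sr i) = -sr i ∧ w * cs.simple i ∈ WJ cs J)}
  one_mem' := Or.inl ⟨by rw [map_one]; rfl, one_mem _⟩
  mul_mem' := by
    rintro a b (⟨ha, ha'⟩ | ⟨ha, ha'⟩) (⟨hb, hb'⟩ | ⟨hb, hb'⟩)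
    · exact Or.inl ⟨by rw [rep_mul_apply, hb, ha], mul_mem ha' hb'⟩
    · refine Or.inr ⟨by rw [rep_mul_apply, hb, map_neg, ha], ?_⟩
      rw [mul_assoc]
      exact mul_mem ha' hb'
    · refine Or.inr ⟨by rw [rep_mul_apply, hb, ha], ?_⟩
      rw [mul_assoc, comm_of_rep hb, ← mul_assoc]
      exact mul_mem ha' hb'
    · refine Or.inl ⟨by rw [rep_mul_apply, hb, map_neg, ha, neg_neg], ?_⟩
      have h1 : a * b = (a * cs.simple i) * (b * cs.simple i) := by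
        rw [comm_of_rep_neg hb, mul_assoc a, ← mul_assoc (cs.simple i), cs.simple_mul_simple_self, one_mul]
      rw [h1]
      exact mul_mem ha' hb'
  inv_mem' := by
    rintro a (⟨ha, ha'⟩ | ⟨ha, ha'⟩)
    · refine Or.inl ⟨?_, inv_mem ha'⟩
      conv_lhs => rw [← ha]
      rw [← rep_mul_apply, inv_mul_cancel, map_one]
      rfl
    · refine Or.inr ⟨?_, ?_⟩
      · have h1 : rep cs h a⁻¹ (rep cs h a (sr i)) = sr i := by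
          rw [← rep_mul_apply, inv_mul_cancel, map_one]
          rfl
        rw [ha, map_neg] at h1
        exact neg_eq_iff_eq_neg.1 h1
      · have h1 : a⁻¹ * cs.simple i = (a * cs.simple i)⁻¹ := by
          rw [mul_inv_rev, cs.inv_simple, eq_comm, mul_inv_eq_iff_eq_mul, mul_assoc, ← comm_of_rep_neg ha,
            inv_mul_cancel_left]
        rw [h1]
        exact inv_mem ha'

theorem mem_ES_of_sameEdge {J : Set I} {i : I} {w w' : W} (hs : SameEdge cs h J w i w' i) : w⁻¹ * w' ∈ ES cs h J i := by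
  rcases hs with ⟨h1, h2⟩ | ⟨h1, h2⟩
  · refine Or.inl ⟨?_, h2⟩
    rw [rep_mul_apply, ← h1, ← rep_mul_apply, inv_mul_cancel, map_one]
    rfl
  · refine Or.inr ⟨?_, by rwa [mul_assoc]⟩
    have h3 : rep cs h w' (sr i) = -rep cs h w (sr i) := by rw [h1, neg_neg]
    rw [rep_mul_apply, h3, map_neg, ← rep_mul_apply, inv_mul_cancel, map_one]
    rfl

theorem card_ES_le [Finite W] (J : Set I) (i : I) : Nat.card (ES cs h J i) ≤ 2 * Nat.card (WJ cs J) := by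
  classical
  have hs : ∀ w : ES cs h J i, ¬ (w : W) ∈ WJ cs J → (w : W) * cs.simple i ∈ WJ cs J := by
    rintro ⟨w, ⟨_, h1⟩ | ⟨_, h1⟩⟩ hw
    · exact absurd h1 hw
    · exact h1
  let f : ES cs h J i → WJ cs J ⊕ WJ cs J := fun w =>
    if hw : (w : W) ∈ WJ cs J then Sum.inl ⟨w, hw⟩ else Sum.inr ⟨w * cs.simple i, hs w hw⟩
  have hf : Function.Injective f := by
    intro a b hab
    simp only [f] at hab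
    by_cases ha : (a : W) ∈ WJ cs J <;> by_cases hb : (b : W) ∈ WJ cs J
    · rw [dif_pos ha, dif_pos hb, Sum.inl.injEq, Subtype.mk.injEq] at hab
      exact Subtype.ext hab
    · rw [dif_pos ha, dif_neg hb] at hab
      cases hab
    · rw [dif_neg ha, dif_pos hb] at hab
      cases hab
    · rw [dif_neg ha, dif_neg hb, Sum.inr.injEq, Subtype.mk.injEq] at hab
      exact Subtype.ext (mul_right_cancel hab)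
  have h1 := Nat.card_le_card_of_injective f hf
  rwa [Nat.card_sum, ← two_mul] at h1

section dim

variable {Y : Type*} [Group Y] {p : ℕ} {T : Subgroup Y} {n : I → Y} {X : (I → ℤ) → Subgroup Y}
  {k V : Type*} [Field k] [AddCommGroup V] [Module k V] (R : RGD cs h p T n X) [Finite Y] [Finite W] [Fact p.Prime]
  [CharP k p] {ρ : Y →* Module.End k V} [FiniteDimensional k V]
  (hirr : ∀ L : Submodule k V, Ivt ρ (GG cs h T X) L → L = ⊥ ∨ L = ⊤)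
include R hirr

/-- **The edges of one type.** -/
theorem edge_bound [Nontrivial V] (hD : Module.finrank k (D cs h X ρ) = 1) (i : I)
    (h2 : 2 ≤ Module.finrank k (Le cs h T X ρ {i})) :
    (WJ cs (Jx cs h X ρ)).index * Module.finrank k (Le cs h T X ρ {i}) ≤ 2 * Module.finrank k V := by
  classical
  set J := Jx cs h X ρ with hJ
  have := Fintype.ofFinite (W ⧸ WJ cs J)
  have := Fintype.ofFinite (W ⧸ ES cs h J i)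
  have key := dim_ge R hirr (α := W ⧸ WJ cs J) (β := W ⧸ ES cs h J i) Quotient.out (fun a a' haa hmem => by
    apply haa
    rw [← QuotientGroup.out_eq' a, ← QuotientGroup.out_eq' a']
    exact QuotientGroup.eq.2 hmem) Quotient.out (fun _ => i) (fun b b' hbb hs => by
    apply hbb
    rw [← QuotientGroup.out_eq' b, ← QuotientGroup.out_eq' b']
    exact QuotientGroup.eq.2 (mem_ES_of_sameEdge hs))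
  rw [hD, mul_one, Finset.sum_const, Finset.card_univ, smul_eq_mul, ← Nat.card_eq_fintype_card,
    ← Nat.card_eq_fintype_card] at key
  have h3 := finrank_Io R hirr i
  rw [hD] at h3
  have e1 : Nat.card (W ⧸ WJ cs J) = (WJ cs J).index := rfl
  have e2 : Nat.card (W ⧸ ES cs h J i) = (ES cs h J i).index := rfl
  rw [e1, e2] at key
  have h4 := (WJ cs J).index_mul_card
  have h5 := (ES cs h J i).index_mul_card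
  have h6 := card_ES_le (cs := cs) (h := h) J i
  have h7 : 0 < Nat.card (WJ cs J) := Nat.card_pos
  have h8 : (WJ cs J).index ≤ 2 * (ES cs h J i).index := by
    refine Nat.le_of_mul_le_mul_right ?_ h7
    calc (WJ cs J).index * Nat.card (WJ cs J) = (ES cs h J i).index * Nat.card (ES cs h J i) := by rw [h4, h5]
      _ ≤ (ES cs h J i).index * (2 * Nat.card (WJ cs J)) := Nat.mul_le_mul_left _ h6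
      _ = 2 * (ES cs h J i).index * Nat.card (WJ cs J) := by ring
  obtain ⟨d, hd⟩ : ∃ d, Module.finrank k (Le cs h T X ρ {i}) = d + 2 :=
    ⟨Module.finrank k (Le cs h T X ρ {i}) - 2, by omega⟩
  have h9 : d ≤ Module.finrank k (Io cs h T X ρ i) := by omega
  rw [hd]
  have h10 : (WJ cs J).index * d ≤ 2 * ((ES cs h J i).index * Module.finrank k (Io cs h T X ρ i)) := by
    calc (WJ cs J).index * d ≤ 2 * (ES cs h J i).index * Module.finrank k (Io cs h T X ρ i) := Nat.mul_le_mul h8 h9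
      _ = _ := by ring
  linarith only [key, h10]

end dim

end Cfsg.Agent.H2.Ppd
end

-- part: H2/Ppd/Node
section
/-!
# Root group data with `SL₂`-nodes of perfect central extensions (helper2)

`π : L → G` a perfect central extension with kernel prime to `p`; `G` a finite group with a root group datum in
characteristic `p`, homomorphisms `θ i : SL(2, E i) → G` onto the rank one groups (`Nd`) and a commutative torus.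

* `inj_Lv` : `π` is injective on the lifted rank one groups;
* **`exists_lift`** : `L` has the same data.
-/

set_option autoImplicit false
set_option linter.unusedSectionVars false
set_option linter.style.haveILetI false

namespace Cfsg.Agent.H2.Ppd

open CoxeterSystem Cfsg.Agent.ChevalleyStructure.CoxeterGeom Cfsg.Agent.Tits.Roots
  Cfsg.Agent.Nodes.Reps Cfsg.Agent.Nodes.BNOf Cfsg.Agent.Nodes.RGDLib Cfsg.Agent.Nodes.RGDLift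
  Cfsg.Agent.KFacts.MulOdd.Inst Cfsg.Agent.KFacts.MulOdd.Shrink Cfsg.Agent.KFacts.MulOdd.Main
  Cfsg.Agent.H67 Cfsg.Agent.H67.Cross Cfsg.Agent.H51.Mult
open Cfsg.Agent.ChevalleyStructure.SL2Hom (up lo mem_closure_SL2)
open Cfsg.Agent.Nodes.RGDFoldSL (wS hS coe_wS coe_hS lo_eq)
open Cfsg.Agent.KFacts.MulOdd.Node (up_zero up_mul up_inv hS_up hS_one hS_neg_one eq_of_lower_zero eq_of_lower_ne
  lower_zero_of_mul eq_one_of_mem)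
open Cfsg.Agent.H64.CrossChev (Nd noCE_SL)
open scoped MatrixGroups

theorem exists_hom_lift {S L G : Type*} [Group S] [Group L] [Group G] (π : L →* G) (H : Subgroup L)
    (hinj : ∀ x ∈ H, π x = 1 → x = 1) (θ : S →* G) (hθ : θ.range ≤ H.map π) :
    ∃ θ' : S →* L, (∀ g, θ' g ∈ H) ∧ ∀ g, π (θ' g) = θ g := by
  have hex : ∀ g, ∃ x ∈ H, π x = θ g := fun g => hθ ⟨g, rfl⟩
  choose f hf hf' using hex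
  have huniq : ∀ x ∈ H, ∀ y ∈ H, π x = π y → x = y := by
    intro x hx y hy e
    have h1 := hinj (x⁻¹ * y) (mul_mem (inv_mem hx) hy) (by rw [map_mul, map_inv, e, inv_mul_cancel])
    exact inv_mul_eq_one.1 h1
  refine ⟨MonoidHom.mk' f fun a b => huniq _ (hf _) _ (mul_mem (hf a) (hf b)) ?_, hf, hf'⟩
  rw [hf', map_mul, map_mul, hf', hf']

theorem up_pow {F : Type*} [Field F] (a : F) (k : ℕ) : (up a : SL(2, F)) ^ k = up (k * a) := by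
  induction k with
  | zero => rw [pow_zero, Nat.cast_zero, zero_mul, up_zero]
  | succ k ih => rw [pow_succ, ih, up_mul, Nat.cast_succ, add_mul, one_mul]

section lift

variable {I W G : Type*} [Fintype I] [DecidableEq I] [Group W] [Finite W] [Group G] {L : Type} [Group L] [Finite L]
  {M : CoxeterMatrix I} {cs : CoxeterSystem M W} {A : I → I → ℤ} {h : IsCartan M A} {p : ℕ} {T : Subgroup G}
  {n : I → G} {X : (I → ℤ) → Subgroup G} {π : L →* G}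
  {E : I → Type} [∀ i, Field (E i)] [∀ i, Finite (E i)] [∀ i, CharP (E i) p] {θ : ∀ i, SL(2, E i) →* G}

/-- `π` is injective on the lifted rank one groups. -/
theorem inj_Lv (hp : p.Prime) (hd : PCE π) (hcop : (Nat.card π.ker).Coprime p) (R : RGD cs h p T n X)
    (N : ∀ i, Nd T n X i (θ i)) (i : I) {x : L} (hx : x ∈ Lv (fun x => lft p π (X x)) i) (hπ : π x = 1) : x = 1 := by
  have hG : Finite G := Finite.of_surjective π hd.surj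
  refine H64.Cross.inf_ker_eq hp hd hcop R (fun i r hr hrd => (N i).noCE R (noCE_SL hp hr ?_)) i hx hπ
  rintro rfl
  have := Nat.Coprime.eq_one_of_dvd hcop.symm hrd
  exact hr.one_lt.ne' this

theorem map_Lv (hp : p.Prime) (hd : PCE π) (hcop : (Nat.card π.ker).Coprime p) (R : RGD cs h p T n X) (i : I) :
    (Lv (fun x => lft p π (X x)) i).map π = Lv X i := by
  haveI : Fact p.Prime := ⟨hp⟩
  unfold Lv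
  rw [Subgroup.map_sup, map_lft hd.cen hcop hd.surj (R.pgrp i),
    map_lft hd.cen hcop hd.surj (R.pgrp' (isRoot_sr cs h i).neg)]

/-- **The lifted data.** -/
theorem exists_lift (hp : p.Prime) (hd : PCE π) (hcop : (Nat.card π.ker).Coprime p) (R : RGD cs h p T n X)
    (hgen : G1 cs h X = ⊤) (hT : ∀ s ∈ T, ∀ t ∈ T, s * t = t * s) (N : ∀ i, Nd T n X i (θ i)) :
    ∃ θ' : ∀ i, SL(2, E i) →* L, (∀ i g, π (θ' i g) = θ i g) ∧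
      RGD cs h p (T.comap π) (fun i => θ' i (wS 1)) (fun x => lft p π (X x)) ∧
      G1 cs h (fun x => lft p π (X x)) = ⊤ ∧
      (∀ s ∈ T.comap π, ∀ t ∈ T.comap π, s * t = t * s) ∧
      ∀ i, Nd (T.comap π) (fun i => θ' i (wS 1)) (fun x => lft p π (X x)) i (θ' i) := by
  haveI : Fact p.Prime := ⟨hp⟩
  have hG : Finite G := Finite.of_surjective π hd.surj
  have hinj : ∀ i, ∀ x ∈ Lv (fun x => lft p π (X x)) i, π x = 1 → x = 1 := fun i x hx h1 =>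
    inj_Lv hp hd hcop R N i hx h1
  have hmap : ∀ i, (Lv (fun x => lft p π (X x)) i).map π = Lv X i := fun i => map_Lv hp hd hcop R i
  have hex : ∀ i, ∃ θ' : SL(2, E i) →* L, (∀ g, θ' g ∈ Lv (fun x => lft p π (X x)) i) ∧ ∀ g, π (θ' g) = θ i g := by
    intro i
    refine exists_hom_lift π _ (hinj i) (θ i) ?_
    rw [hmap i, (N i).range R]
    exact le_rfl
  choose θ' h1 h2 using hex
  have hn : ∀ i, π (θ' i (wS 1)) = n i := fun i => by rw [h2, (N i).w]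
  have R' : RGD cs h p (T.comap π) (fun i => θ' i (wS 1)) (fun x => lft p π (X x)) :=
    rgd_lift hd.cen hcop hd.surj R hn
  have hgen' : G1 cs h (fun x => lft p π (X x)) = ⊤ := by
    obtain ⟨-, -, -, h3⟩ := H905.DC.exists_rgd_lift hd.perf hd.cen hcop hd.surj R hgen
    exact h3
  have hcomm : ∀ s ∈ T.comap π, ∀ t ∈ T.comap π, s * t = t * s := by
    intro s hs t ht
    have key : T.comap π ≤ Subgroup.centralizer ((T.comap π : Subgroup L) : Set L) := by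
      refine (torus_le R' hgen').trans (iSup_le fun i x hx => ?_)
      obtain ⟨hxT, hxL⟩ := Subgroup.mem_inf.1 hx
      rw [Subgroup.mem_centralizer_iff]
      intro y hy
      have h3 : y * x * y⁻¹ ∈ Lv (fun x => lft p π (X x)) i := by
        have h4 := cj_t_Lv R' (t := y) hy i
        rw [← h4]
        exact conj_mem_cj.2 hxL
      have h5 : y * x * y⁻¹ * x⁻¹ = 1 := by
        refine hinj i _ (mul_mem h3 (inv_mem hxL)) ?_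
        rw [map_mul, map_mul, map_mul, map_inv, map_inv, hT _ hy _ hxT]
        group
      rw [mul_inv_eq_one, mul_inv_eq_iff_eq_mul] at h5
      exact h5
    exact Subgroup.mem_centralizer_iff.1 (key ht) s hs
  refine ⟨θ', h2, R', hgen', hcomm, fun i => ⟨?_, ?_, ?_, rfl, ?_⟩⟩
  · intro y
    constructor
    · intro hy
      have h3 := (mem_lft hd.cen (R.pgrp i)).1 hy
      obtain ⟨a, ha⟩ := ((N i).mem _).1 h3.1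
      refine ⟨a, ?_⟩
      have hyL : y ∈ Lv (fun x => lft p π (X x)) i := (le_sup_left : lft p π (X (sr i)) ≤ _) hy
      have h4 : (θ' i (up a))⁻¹ * y = 1 := hinj i _ (mul_mem (inv_mem (h1 i _)) hyL) (by
        rw [map_mul, map_inv, h2, ha, inv_mul_cancel])
      exact inv_mul_eq_one.1 h4
    · rintro ⟨a, rfl⟩
      refine (mem_lft hd.cen (R.pgrp i)).2 ⟨?_, 1, ?_⟩
      · rw [h2]
        exact ((N i).mem _).2 ⟨a, rfl⟩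
      · rw [pow_one, ← map_pow, up_pow, CharP.cast_eq_zero, zero_mul, up_zero, map_one]
  · intro a ha
    refine (N i).inj a ?_
    rw [← h2, ha, map_one]
  · intro c hc
    rw [Subgroup.mem_comap, h2]
    exact (N i).dia c hc
  · intro h3
    refine (N i).neg ?_
    rw [← h2, h3, map_one]

end lift

end Cfsg.Agent.H2.Ppd
end

-- part: H2/Ppd/Weight
section
/-!
# The weights of a representation over `F` (helper2)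

`φ : Y → GL(ι, F)` absolutely irreducible, `R` a root group datum of `Y`, `c` a highest weight vector over the algebraic
closure, `θ : SL_2(E) → Y`, `|E| = p ^ b`, `|F| = p ^ a`.

* **`exists_weight`** : for `g` over `w ∈ W`: the character of `g⁻¹ θ(hh s) g` on `c` is `j s ^ r`, `1 ≤ r ≤ |E| - 1`,
  `2 ^ (b / gcd a b) ≤ |SS p r|`;
* `le_Le` : `i ∉ J` : `2 ^ (b / gcd a b) ≤ dim Le {i}`.
-/

set_option autoImplicit false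
set_option linter.unusedSectionVars false
set_option linter.style.haveILetI false

namespace Cfsg.Agent.H2.Ppd

open Matrix CoxeterSystem Cfsg.Agent.ChevalleyStructure.CoxeterGeom Cfsg.Agent.Tits.Roots Cfsg.Agent.Tits.Core
  Cfsg.Agent.Tits.Exchange Cfsg.Agent.Nodes.Reps Cfsg.Agent.Nodes.BNOf Cfsg.Agent.Nodes.StabComb
  Cfsg.Agent.Nodes.Bruhat Cfsg.Agent.Nodes.OppDec Cfsg.Agent.Nodes.LeviDec Cfsg.Agent.KFacts.RgdOpp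
  Cfsg.Agent.Omega.CR Cfsg.Agent.Omega.FOne.Lift.Sd Cfsg.Agent.H905.Md Cfsg.Agent.H911
open Cfsg.Agent.H875.Fn Cfsg.Agent.H392.TD Cfsg.Agent.H905.DC
open Cfsg.Agent.H911.SLTwo (U Lo hh ww)
open Cfsg Cfsg.Geo
open scoped MatrixGroups

/-- a field containing both -/
theorem exists_emb (F : Type*) [Field F] (E : Type*) [Field E] [Fintype E] (p : ℕ) [hp : Fact p.Prime] [CharP E p]
    [CharP F p] : Nonempty (E →+* AlgebraicClosure F) := by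
  let _ : Algebra (ZMod p) E := ZMod.algebra E p
  have hk : CharP (AlgebraicClosure F) p := charP_of_injective_ringHom (algebraMap F (AlgebraicClosure F)).injective p
  let _ : Algebra (ZMod p) (AlgebraicClosure F) := ZMod.algebra (AlgebraicClosure F) p
  exact ⟨(IsAlgClosed.lift (R := ZMod p) (S := E) (M := AlgebraicClosure F)).toRingHom⟩

/-- characters of a cyclic group embedded in a field -/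
theorem exists_exp {A F k : Type*} [Group A] [Finite A] [Field F] [Field k] (j : F →+* k)
    (μ : A →* F) (hμ : Function.Injective μ) (χ : A →* k) :
    ∃ θ : ℕ, 1 ≤ θ ∧ (∀ b : ℕ, 0 < b → (∀ t, μ t ^ b = 1) → θ ≤ b) ∧ ∀ t, χ t = j (μ t) ^ θ := by
  have hcyc : IsCyclic A := isCyclic_of_injective_ringHom μ hμ
  obtain ⟨g, hg⟩ := IsCyclic.exists_generator (α := A)
  set n := orderOf g with hn
  have hn0 : 0 < n := orderOf_pos g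
  have h1 : orderOf (j (μ g)) = n := by
    have := orderOf_injective ((j : F →* k).comp μ) (j.injective.comp hμ) g
    exact this
  have hprim : IsPrimitiveRoot (j (μ g)) n := by
    rw [← h1]
    exact IsPrimitiveRoot.orderOf _
  have h2 : χ g ^ n = 1 := by rw [← map_pow, pow_orderOf_eq_one, map_one]
  have : NeZero n := ⟨hn0.ne'⟩
  obtain ⟨i, hi, he⟩ := hprim.eq_pow_of_pow_eq_one h2
  have key : ∀ θ : ℕ, j (μ g) ^ θ = χ g → ∀ t, χ t = j (μ t) ^ θ := by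
    intro θ hθ t
    obtain ⟨a, rfl⟩ := mem_powers_iff_mem_zpowers.2 (hg t)
    change χ (g ^ a) = j (μ (g ^ a)) ^ θ
    rw [map_pow, map_pow, map_pow, ← hθ, ← pow_mul, ← pow_mul, mul_comm]
  have hle : ∀ b : ℕ, 0 < b → (∀ t, μ t ^ b = 1) → n ≤ b := by
    intro b hb h
    refine Nat.le_of_dvd hb (orderOf_dvd_of_pow_eq_one (hμ ?_))
    rw [map_pow, map_one, h g]
  by_cases hi0 : i = 0
  · refine ⟨n, hn0, hle, key n ?_⟩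
    rw [hprim.pow_eq_one, ← he, hi0, pow_zero]
  · exact ⟨i, Nat.one_le_iff_ne_zero.2 hi0, fun b hb h => hi.le.trans (hle b hb h), key i he⟩

theorem hh_mul' {E : Type*} [Field E] (s t : Eˣ) : (hh (s * t) : SL(2, E)) = hh s * hh t := by
  apply H911.SLTwo.ext' <;>
  simp only [H911.SLTwo.m00, H911.SLTwo.m01, H911.SLTwo.m10, H911.SLTwo.m11, H911.SLTwo.hh00, H911.SLTwo.hh01,
    H911.SLTwo.hh10, H911.SLTwo.hh11, Units.val_mul, mul_inv, mul_zero, zero_mul, add_zero, zero_add]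

section Main

variable {I W Y : Type*} [Fintype I] [DecidableEq I] [Group W] [Group Y] {M : CoxeterMatrix I}
  {cs : CoxeterSystem M W} {A : I → I → ℤ} {h : IsCartan M A} {p : ℕ} {T : Subgroup Y} {n : I → Y}
  {X : (I → ℤ) → Subgroup Y} {F : Type*} [Field F] [Finite F] {ι : Type} [Fintype ι] [DecidableEq ι]
  {P : Subgroup (GL ι F)}

variable (R : RGD cs h p T n X) [Finite Y] [Finite W] [hp : Fact p.Prime] [CharP F p] [Nonempty ι]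
  (hG : GG cs h T X = ⊤) {φ : Y →* GL ι F} (hφ : φ.range = P)
  (hP : ActsAbsolutelyIrreducibly (matrixSet P))
  {E : Type*} [Field E] [Fintype E] [CharP E p] {a b : ℕ} (hF : Nat.card F = p ^ a) (hE : Fintype.card E = p ^ b)
  (j : E →+* AlgebraicClosure F)
  {c : ι → AlgebraicClosure F} (hc : c ∈ fx (lin (acRep φ)) (RGD.Sup X (RGD.Pos cs h)))
  (hc0 : c ≠ 0) {χ : Y → AlgebraicClosure F} (hχ : ∀ t ∈ T, lin (acRep φ) t c = χ t • c)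
include R hG hφ hP hF hE j hc hc0 hχ

/-- **The weights at one node.** -/
theorem exists_weight (θ : SL(2, E) →* Y) (hdia : ∀ s : Eˣ, θ (hh s) ∈ T) {w : W} {g : Y}
    (hg : Rp cs R.nsys w g) : ∃ r : ℕ, r ≠ 0 ∧ r ≤ Fintype.card E - 1 ∧ 2 ^ (b / Nat.gcd a b) ≤ (SS p r).card ∧
      ∀ s : Eˣ, lin (acRep φ) (g⁻¹ * θ (hh s) * g) c = (j (s : E) ^ r) • c := by
  have hT : ∀ t ∈ T, g⁻¹ * t * g ∈ T := by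
    intro t ht
    have h1 := (Subgroup.mem_normalizer_iff.1 (inv_mem hg.mem_normalizer) t).1 ht
    rwa [inv_inv] at h1
  have hmem : ∀ s : Eˣ, g⁻¹ * θ (hh s) * g ∈ T := fun s => hT _ (hdia s)
  have hinj := smul_left_injective (AlgebraicClosure F) hc0
  let χ' : Eˣ →* AlgebraicClosure F :=
    { toFun := fun s => χ (g⁻¹ * θ (hh s) * g)
      map_one' := by
        apply hinj
        change χ _ • c = (1 : AlgebraicClosure F) • c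
        rw [← hχ _ (hmem 1), one_smul]
        have e : (hh (1 : Eˣ) : SL(2, E)) = 1 := by
          have h2 := hh_mul' (E := E) 1 1
          rw [mul_one] at h2
          exact (mul_eq_left.1 h2.symm)
        rw [e, map_one, mul_one, inv_mul_cancel, rho_one]
      map_mul' := fun s t => by
        apply hinj
        change χ _ • c = (χ _ * χ _) • c
        rw [← hχ _ (hmem (s * t)), hh_mul', map_mul θ]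
        have e : g⁻¹ * (θ (hh s) * θ (hh t)) * g = (g⁻¹ * θ (hh s) * g) * (g⁻¹ * θ (hh t) * g) := by group
        rw [e, rho_mul, hχ _ (hmem t), map_smul, hχ _ (hmem s), smul_smul, mul_comm] }
  have hχ' : ∀ s, χ' s = χ (g⁻¹ * θ (hh s) * g) := fun s => rfl
  obtain ⟨r, hr1, hr2, hr3⟩ := exists_exp j (Units.coeHom E) Units.val_injective χ'
  have hEc : 1 < Fintype.card E := Fintype.one_lt_card
  have hr : r ≤ Fintype.card E - 1 := hr2 _ (by omega) fun t => by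
    change (t : E) ^ _ = 1
    exact FiniteField.pow_card_sub_one_eq_one _ t.ne_zero
  have ha : 0 < a := by
    rcases Nat.eq_zero_or_pos a with h0 | h0
    · rw [h0, pow_zero] at hF
      have := Finite.one_lt_card (α := F)
      omega
    · exact h0
  refine ⟨r, by omega, hr, ?_, fun s => by rw [hχ _ (hmem s), ← hχ', hr3 s]; rfl⟩
  rw [hE] at hr
  refine two_pow_le_card_SS ha (by omega) hr ?_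
  -- the values lie in `F`
  have hFF : ∀ s : Eˣ, (j (s : E) ^ r) ^ Nat.card F = j (s : E) ^ r := by
    intro s
    have h1 := hr3 s
    rw [hχ'] at h1
    obtain ⟨x, hx⟩ := chi_mem R hG hφ hP hc hc0 hχ (hmem s)
    have h2 : j (s : E) ^ r = algebraMap F (AlgebraicClosure F) x := by rw [hx, h1]; rfl
    have := Fintype.ofFinite F
    rw [h2, ← map_pow, Nat.card_eq_fintype_card, FiniteField.pow_card]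
  have hF1 : 1 ≤ Nat.card F := Nat.card_pos
  have hone : ∀ s : Eˣ, s ^ (r * (Nat.card F - 1)) = 1 := by
    intro s
    have h1 := hFF s
    have h2 : (j (s : E) ^ r) ^ (Nat.card F - 1) = 1 := by
      have h3 : (j (s : E) ^ r) ^ (Nat.card F - 1) * (j (s : E) ^ r) = 1 * (j (s : E) ^ r) := by
        rw [← pow_succ, Nat.sub_add_cancel hF1, h1, one_mul]
      exact mul_right_cancel₀ (pow_ne_zero _ ((map_ne_zero j).2 s.ne_zero)) h3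
    apply Units.ext
    apply j.injective
    rw [Units.val_pow_eq_pow_val, map_pow, pow_mul, h2, Units.val_one, map_one]
  obtain ⟨u, hu⟩ := IsCyclic.exists_ofOrder_eq_natCard (α := Eˣ)
  have h4 : Nat.card Eˣ ∣ r * (Nat.card F - 1) := by
    rw [← hu]
    exact orderOf_dvd_of_pow_eq_one (hone u)
  rw [Nat.card_units, Nat.card_eq_fintype_card (α := E), hE, hF] at h4
  exact h4

/-- **The edge.** -/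
theorem le_Le (θ : SL(2, E) →* Y) {i : I} (hU : ∀ t, θ (U t) ∈ X (sr i))
    (hLo : ∀ t, θ (Lo t) ∈ X (-sr i)) (hww : Rp cs R.nsys (cs.simple i) (θ ww)) (hdia : ∀ s : Eˣ, θ (hh s) ∈ T)
    (hi : i ∉ Jx cs h X (lin (acRep φ))) :
    2 ^ (b / Nat.gcd a b) ≤ Module.finrank (AlgebraicClosure F) (Le cs h T X (lin (acRep φ)) {i}) := by
  have hchar : CharP (AlgebraicClosure F) p := charP_of_injective_algebraMap (algebraMap F _).injective p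
  have hirr : ∀ L : Submodule (AlgebraicClosure F) (ι → AlgebraicClosure F),
      Ivt (lin (acRep φ)) (GG cs h T X) L → L = ⊥ ∨ L = ⊤ :=
    fun L hL => acRep_irr hφ (H920.span_eq_top hP) hG L hL
  obtain ⟨r, hr0, hr, hrc, hrχ⟩ := exists_weight R hG hφ hP hF hE j hc hc0 hχ θ hdia (rp_one (cs := cs))
  refine hrc.trans ?_
  set L := Le cs h T X (lin (acRep φ)) {i} with hL
  have hLth : ∀ g : SL(2, E), ∀ v ∈ L, lin (acRep φ) (θ g) v ∈ L := by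
    intro g v hv
    refine Ivt_Le R (ρ := lin (acRep φ)) ({i} : Set I) _ ?_ v hv
    have h3 : ∀ k : I, k ∉ ({i} : Set I) → (sr i : I → ℤ) k = 0 := fun k hk =>
      sr_ne fun e => hk (by rw [e]; rfl)
    refine closure_U_Lo (S := (LJ cs h T X {i}).comap θ) (fun t => ?_) (fun t => ?_) g
    · exact X_le_LJ ⟨isRoot_sr cs _ i, h3⟩ (hU t)
    · exact X_le_LJ ⟨(isRoot_sr cs _ i).neg, fun k hk => by rw [Pi.neg_apply, h3 k hk, neg_zero]⟩ (hLo t)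
  have hcL : c ∈ L := D_le_Le R _ hc
  let Q : SL(2, E) →* Module.End (AlgebraicClosure F) L :=
    { toFun := fun g => (lin (acRep φ) (θ g)).restrict (hLth g)
      map_one' := by
        ext v : 2
        rw [LinearMap.coe_restrict_apply, map_one, map_one]
        rfl
      map_mul' := fun g g' => by
        ext v : 2
        rw [LinearMap.coe_restrict_apply, map_mul, rho_mul]
        rfl }
  obtain ⟨φ₀, hφ₀, hne⟩ := exists_pair_D R hirr hc hc0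
  have hφUN : ∀ u ∈ UN cs h X, ∀ x, φ₀ (lin (acRep φ) u x) = φ₀ x := fun u hu x => dual_fx_pair R hφ₀ hu x
  have key := sum_le (j := j) (Q := Q) p (α := Unit) (fun _ => ⟨c, hcL⟩) (fun _ => φ₀.comp L.subtype) (fun _ => r)
    (fun _ => hr0) (fun _ => hr) (fun _ t x => ?_) (fun _ t => ?_) (fun _ s => ?_)
    (fun _ => hne) (fun a b hab => absurd rfl hab) (fun _ _ => ?_)
  · rwa [Finset.univ_unique, Finset.sum_singleton] at key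
  · change φ₀ (lin (acRep φ) (θ (Lo t)) x) = φ₀ x
    refine hφUN _ ?_ _
    exact X_le_UN (isRoot_sr cs _ i).neg (neg_nonpos.2 (sr_nonneg i)) (hLo t)
  · apply Subtype.ext
    change lin (acRep φ) (θ (U t)) c = c
    exact hc _ (RGD.le_Sup (S := RGD.Pos cs h) ⟨isRoot_sr cs h i, sr_nonneg i⟩ (hU t))
  · apply Subtype.ext
    change lin (acRep φ) (θ (hh s)) c = _
    have h2 := hrχ s
    rw [inv_one, one_mul, mul_one] at h2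
    exact h2
  · change φ₀ (lin (acRep φ) (θ ww) c) = 0
    by_contra hcon
    have h2 := mem_WJ_of_pair R hirr hφ₀ hww hc hcon
    exact hi (_root_.Cfsg.Agent.H905.Md.simple_mem_WJ h h2)

end Main

end Cfsg.Agent.H2.Ppd
end

-- part: H2/Ppd/Main
section
/-!
# The dimensions of the representations of the groups of Lie type in their characteristic (helper2)

`P ≤ GL(ι, F)` a core, `Soc P ≃ G`, `G` a group with a root group datum in characteristic `p = char F`, commutative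
torus, `θ i : SL(2, E i) → G`, `|E i| = p ^ f i`, `|F| = p ^ a`.

* **`exists_J`** : a set `J` of nodes, `J ≠ univ`, such that
  - `|W : W_J| * 2 ^ (f i / gcd a (f i)) ≤ 2 |ι|` for `i ∉ J`,
  - `|La| * 2 ^ (f i / gcd a (f i)) + |Lb| ≤ |ι|` if `Jᶜ = {i₀}`, `La` / `Lb` lists of vectors in the orbit of the `i₀`-th
    coordinate, positive / zero at the node `i`.
-/

set_option autoImplicit false
set_option linter.unusedSectionVars false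
set_option linter.style.haveILetI false

namespace Cfsg.Agent.H2.Ppd

open Matrix CoxeterSystem Cfsg.Agent.ChevalleyStructure.CoxeterGeom Cfsg.Agent.Tits.Roots Cfsg.Agent.Tits.Core
  Cfsg.Agent.Tits.Exchange Cfsg.Agent.Nodes.Reps Cfsg.Agent.Nodes.BNOf Cfsg.Agent.Nodes.StabComb
  Cfsg.Agent.Nodes.Bruhat Cfsg.Agent.Nodes.OppDec Cfsg.Agent.Nodes.LeviDec Cfsg.Agent.KFacts.RgdOpp
  Cfsg.Agent.Omega.CR Cfsg.Agent.Omega.FOne.Lift.Sd Cfsg.Agent.H905.Md Cfsg.Agent.H911 Cfsg.Agent.H51.Mult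
open Cfsg.Agent.H875.Fn Cfsg.Agent.H392.TD Cfsg.Agent.H905.DC Cfsg.Agent.H915.LD Cfsg.Agent.H218.SdLift
open Cfsg.Agent.Nodes.RGDLift Cfsg.Agent.Nodes.RGDLib Cfsg.Agent.KFacts.MulOdd.Inst Cfsg.Agent.KFacts.MulOdd.Shrink
open Cfsg.Agent.H911.SLTwo (U Lo hh ww)
open Cfsg.Agent.ChevalleyStructure.SL2Hom (up lo)
open Cfsg.Agent.Nodes.RGDFoldSL (wS hS coe_wS coe_hS lo_eq)
open Cfsg.Agent.H64.CrossChev (Nd)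
open Cfsg Cfsg.Geo
open scoped MatrixGroups

universe u v w

section nd

variable {I W Y : Type*} [Fintype I] [DecidableEq I] [Group W] [Group Y] {M : CoxeterMatrix I}
  {cs : CoxeterSystem M W} {A : I → I → ℤ} {h : IsCartan M A} {p : ℕ} {T : Subgroup Y} {n : I → Y}
  {X : (I → ℤ) → Subgroup Y} {i : I} {E : Type*} [Field E] {θ : SL(2, E) →* Y} (R : RGD cs h p T n X)
  (N : Nd T n X i θ)

theorem U_eq (t : E) : (U t : SL(2, E)) = up t := rfl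
theorem Lo_eq (t : E) : (Lo t : SL(2, E)) = lo t := rfl
theorem ww_eq : (ww : SL(2, E)) = wS 1 := by
  apply Subtype.ext
  rw [coe_wS one_ne_zero, inv_one]
  rfl
theorem hh_eq (s : Eˣ) : (hh s : SL(2, E)) = hS (s : E) := by
  apply Subtype.ext
  rw [coe_hS s.ne_zero, ← Units.val_inv_eq_inv_val]
  rfl

include N

theorem nd_U (t : E) : θ (U t) ∈ X (sr i) := (N.mem _).2 ⟨t, by rw [U_eq]⟩

theorem nd_hh (s : Eˣ) : θ (hh s) ∈ T := by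
  rw [hh_eq]
  exact N.dia _ s.ne_zero

include R

theorem nd_Lo (t : E) : θ (Lo t) ∈ X (-sr i) := by
  rw [Cfsg.Agent.H64.CrossChev.Nd.conj_eq R N]
  exact ⟨-t, by rw [Lo_eq, lo_eq]⟩

theorem nd_ww : Rp cs R.nsys (cs.simple i) (θ ww) := by
  rw [ww_eq, N.w]
  exact rp_simple cs R.nsys i

end nd

/-- **The dimensions.** -/
theorem exists_J {ι : Type} [Fintype ι] [DecidableEq ι] {F : Type u} [Field F] [Finite F] {P : Subgroup (GL ι F)}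
    (hC : Core P) {I W : Type*} {G : Type v} [Fintype I] [DecidableEq I] [Group W] [Finite W] [Group G]
    {M : CoxeterMatrix I} {cs : CoxeterSystem M W} {A : I → I → ℤ} {h : IsCartan M A} {p : ℕ} [hp : Fact p.Prime]
    [CharP F p] {T : Subgroup G} {n : I → G} {X : (I → ℤ) → Subgroup G} (R : RGD cs h p T n X)
    (hgen : G1 cs h X = ⊤) (hT : ∀ s ∈ T, ∀ t ∈ T, s * t = t * s) {E : I → Type} [∀ i, Field (E i)]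
    [∀ i, Fintype (E i)] [∀ i, CharP (E i) p] {θ : ∀ i, SL(2, E i) →* G} (N : ∀ i, Nd T n X i (θ i))
    (e : Soc P ≃* G) {a : ℕ} (hF : Nat.card F = p ^ a) {f : I → ℕ} (hE : ∀ i, Fintype.card (E i) = p ^ f i) :
    ∃ J : Set I, (∃ i, i ∉ J) ∧
      (∀ i, i ∉ J → (WJ cs J).index * 2 ^ (f i / Nat.gcd a (f i)) ≤ 2 * Fintype.card ι) ∧
      (∀ i₀, i₀ ∉ J → (∀ i, i ∉ J → i = i₀) → ∀ (i : I) (La Lb : List (I → ℤ)), (∀ v ∈ La, 0 < v i) →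
        (∀ v ∈ Lb, v i = 0) → La.Nodup → Lb.Nodup → (∀ v ∈ La, ∃ w, co cs h i₀ w = v) →
        (∀ v ∈ Lb, ∃ w, co cs h i₀ w = v) → La.length * 2 ^ (f i / Nat.gcd a (f i)) + Lb.length ≤ Fintype.card ι) := by
  classical
  have hfin : Finite P := inferInstance
  have hsimple := hC.simple
  -- the covering group, in universe zero
  let Y : Type := Shrink.{0} P
  let ψ : Y ≃* P := Shrink.mulEquiv
  have hYf : Finite Y := Finite.of_equiv _ ψ.symm.toEquiv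
  let φ : Y →* GL ι F := P.subtype.comp ψ.toMonoidHom
  have hφ : φ.range = P := by
    rw [MonoidHom.range_comp, MonoidHom.range_eq_top.2 (show Function.Surjective ψ.toMonoidHom from ψ.surjective),
      ← MonoidHom.range_eq_map, Subgroup.range_subtype]
  have hφi : Function.Injective φ := Subtype.val_injective.comp ψ.injective
  let π : Y →* G := (prj e).comp ψ.toMonoidHom
  have hker : ∀ y : Y, y ∈ π.ker ↔ ψ y ∈ (scalars ι F).subgroupOf P := by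
    intro y
    rw [← prj_ker e, MonoidHom.mem_ker, MonoidHom.mem_ker]
    rfl
  have hd : PCE π := by
    refine ⟨(prj_surjective e).comp ψ.surjective, ?_, ?_⟩
    · intro y hy
      rw [Subgroup.mem_center_iff]
      intro z
      apply ψ.injective
      rw [map_mul, map_mul]
      exact Subgroup.mem_center_iff.1 (subgroupOf_scalars_le P ((hker y).1 hy)) (ψ z)
    · have hP := commutator_eq_top_of_perfect hC.perfect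
      have h1 := congrArg (Subgroup.map ψ.symm.toMonoidHom) hP
      rw [commutator_def, Subgroup.map_commutator] at h1
      have h2 : (⊤ : Subgroup P).map ψ.symm.toMonoidHom = ⊤ := by
        rw [← MonoidHom.range_eq_map, MonoidHom.range_eq_top]
        exact ψ.symm.surjective
      rw [h2] at h1
      exact h1
  have hcop : (Nat.card π.ker).Coprime p := by
    refine Nat.Coprime.coprime_dvd_left ?_ (card_scalars_coprime (p := p) P)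
    refine Subgroup.card_dvd_of_injective ((ψ.toMonoidHom.comp π.ker.subtype).codRestrict ((scalars ι F).subgroupOf P)
      (fun x => (hker _).1 x.2)) ?_
    intro x y e
    have e1 : ψ (x : Y) = ψ (y : Y) := congrArg (fun z : (scalars ι F).subgroupOf P => (z : P)) e
    exact Subtype.ext (ψ.injective e1)
  obtain ⟨θ', hθ', R', hgen', hT', N'⟩ := exists_lift hp.out hd hcop R hgen hT N
  -- the representation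
  have hne : Nonempty ι := by
    by_contra hcon
    rw [not_nonempty_iff] at hcon
    exact absurd (hC.nonabelian) (not_not.2 ⟨⟨fun a b => by
      obtain ⟨a, rfl⟩ := QuotientGroup.mk_surjective a
      obtain ⟨b, rfl⟩ := QuotientGroup.mk_surjective b
      rw [Subsingleton.elim a b]⟩⟩)
  have hchar : CharP (AlgebraicClosure F) p := charP_of_injective_algebraMap (algebraMap F _).injective p
  have hGG : GG cs h (T.comap π) (fun x => lft p π (X x)) = ⊤ := gg_eq_top hgen'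
  have hirr : ∀ L : Submodule (AlgebraicClosure F) (ι → AlgebraicClosure F),
      Ivt (lin (acRep φ)) (GG cs h (T.comap π) (fun x => lft p π (X x))) L → L = ⊥ ∨ L = ⊤ :=
    fun L hL => acRep_irr hφ (H920.span_eq_top hC.absIrred) hGG L hL
  obtain ⟨c, hc, hc0, χ, hχ⟩ := exists_chi R' hirr hT'
  have hD := finrank_D R' hirr hT'
  have hdim : Module.finrank (AlgebraicClosure F) (ι → AlgebraicClosure F) = Fintype.card ι :=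
    Module.finrank_fintype_fun_eq_card _
  refine ⟨Jx cs h (fun x => lft p π (X x)) (lin (acRep φ)), ?_, ?_, ?_⟩
  · have h1 : Jx cs h (fun x => lft p π (X x)) (lin (acRep φ)) ≠ Set.univ := by
      refine Jx_ne_univ R' hirr hgen' ?_
      by_contra hcon
      push Not at hcon
      have h1 : ∀ y : Y, y = 1 := fun y => acRep_injective hφi (hcon y)
      exact absurd (hC.nonabelian) (not_not.2 ⟨⟨fun a b => by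
        obtain ⟨a, rfl⟩ := QuotientGroup.mk_surjective a
        obtain ⟨b, rfl⟩ := QuotientGroup.mk_surjective b
        rw [ψ.symm.injective ((h1 (ψ.symm a)).trans (h1 (ψ.symm b)).symm)]⟩⟩)
    exact (Set.ne_univ_iff_exists_notMem _).1 h1
  · intro i hi
    obtain ⟨j⟩ := exists_emb F (E i) p
    have h1 := le_Le R' hGG hφ hC.absIrred hF (hE i) j hc hc0 hχ (θ' i) (i := i) (nd_U (N' i)) (nd_Lo R' (N' i))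
      (nd_ww R' (N' i)) (nd_hh (N' i)) hi
    have h2 : 1 ≤ f i / Nat.gcd a (f i) := by
      have h3 : 0 < f i := by
        rcases Nat.eq_zero_or_pos (f i) with h0 | h0
        · have h4 := hE i
          rw [h0, pow_zero] at h4
          have h5 := Fintype.one_lt_card (α := E i)
          omega
        · exact h0
      exact Nat.div_pos (Nat.le_of_dvd h3 (Nat.gcd_dvd_right _ _)) (Nat.gcd_pos_of_pos_right _ h3)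
    have h3 : 2 ≤ 2 ^ (f i / Nat.gcd a (f i)) := by
      calc 2 = 2 ^ 1 := rfl
        _ ≤ _ := Nat.pow_le_pow_right (by norm_num) h2
    have h4 := edge_bound R' hirr hD i (h3.trans h1)
    rw [hdim] at h4
    exact (Nat.mul_le_mul_left _ h1).trans h4
  · intro i₀ hi₀ hJ i La Lb h1 h2 h3 h4 h5 h6
    obtain ⟨j⟩ := exists_emb F (E i) p
    have h7 := levi_count j R' hirr hi₀ hJ (θ' i) (i := i) (nd_U (N' i)) (nd_Lo R' (N' i))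
      (nd_ww R' (N' i)) hc hc0 La Lb h1 h2 h3 h4 h5 h6 (2 ^ (f i / Nat.gcd a (f i)))
      (fun w g hg => exists_weight R' hGG hφ hC.absIrred hF (hE i) j hc hc0 hχ (θ' i) (nd_hh (N' i)) hg)
    rwa [hdim] at h7

end Cfsg.Agent.H2.Ppd
end

private theorem dce_899460954a6e : _root_.True := by
  try have : _root_.True := by simp only [_root_.Cfsg.Agent.H2.Ppd.ES.congr_simp]
  exact _root_.True.intro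
end

-- part: H2/Ppd/Exc
section
set_option linter.all false
open scoped Cfsg.Agent.FastGrp

/-!
# TEAM PPD (S5948): the exceptional groups `F₄, E₆, E₇, E₈, ²E₆` in their characteristic (helper2)

`not_f4`, `not_e6`, `not_e7`, `not_e8`, `not_2e6`.
-/

set_option autoImplicit false
set_option linter.unusedSectionVars false
set_option linter.style.haveILetI false

namespace Cfsg.Agent.H2.Ppd

open Matrix CoxeterSystem Cfsg.Agent.ChevalleyStructure.CoxeterGeom Cfsg.Agent.Tits.Roots Cfsg.Agent.Tits.Core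
  Cfsg.Agent.Tits.Exchange Cfsg.Agent.Nodes.Reps Cfsg.Agent.Nodes.BNOf Cfsg.Agent.Nodes.Bruhat
open Cfsg.Agent.H905.DC Cfsg.Agent.H915.LD Cfsg.Agent.H100.Ppd Cfsg.Agent.KFacts.MulOdd.Inst
open Cfsg.Agent.H64.CrossChev (Nd nd isType_F4 isType_E6 isType_E7 isType_E8 parity_E7)
open Cfsg.Agent.Nodes.RGDChev (IsType)
open Cfsg.Lie Cfsg.Agent.ChevalleyStructure Cfsg.Agent.ChevalleyStructure.Elts
  Cfsg.Agent.ChevalleyStructure.CoxeterGeomTypes Cfsg.Agent.KFacts.MulOdd.InstChev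
open Cfsg Cfsg.Geo
open scoped MatrixGroups

universe u v w

/-! ### numbers -/

theorem two_mul_le_two_pow {j : ℕ} (hj : 1 ≤ j) : 2 * j ≤ 2 ^ j := by
  induction j, hj using Nat.le_induction with
  | base => norm_num
  | succ j hj ih =>
    rw [pow_succ]
    omega

theorem three_mul_le {j : ℕ} (hj : 2 ≤ j) : 3 * j ≤ 2 ^ j + 2 := by
  induction j, hj using Nat.le_induction with
  | base => norm_num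
  | succ j hj ih =>
    have h1 : 2 ^ 2 ≤ 2 ^ j := Nat.pow_le_pow_right (by norm_num) hj
    rw [pow_succ]
    omega

theorem div_gcd_le {a b d : ℕ} (hb : 0 < b) : b * d / Nat.gcd a (b * d) ≤ d * (b / Nat.gcd a b) := by
  have h1 : Nat.gcd a b ∣ b := Nat.gcd_dvd_right _ _
  have h2 : 0 < Nat.gcd a b := Nat.gcd_pos_of_pos_right _ hb
  rw [← Nat.mul_div_assoc _ h1, Nat.mul_comm d b]
  rcases Nat.eq_zero_or_pos d with rfl | hd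
  · simp
  refine Nat.div_le_div_left ?_ h2
  refine Nat.le_of_dvd (Nat.gcd_pos_of_pos_right _ (Nat.mul_pos hb hd)) ?_
  exact Nat.dvd_gcd (Nat.gcd_dvd_left _ _) (h1.mul_right _)

theorem k_le {p a n k m : ℕ} (h : Num (p ^ a) n k m) {r : ℕ} (hr : r.Prime) (hrm : r ∣ m) {b d : ℕ}
    (hp : p.Prime) (hb : 0 < b) (hd : 0 < d) (hdvd : r ∣ p ^ (b * d) - 1) :
    k ≤ d * (b / Nat.gcd a b) := by
  have : Fact r.Prime := ⟨hr⟩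
  have hbd : 0 < b * d := Nat.mul_pos hb hd
  set g := Nat.gcd a (b * d) with hg
  have hg0 : 0 < g := Nat.gcd_pos_of_pos_right _ hbd
  have h1 : (p : ZMod r) ^ (b * d) = 1 := by
    have h2 : 1 ≤ p ^ (b * d) := Nat.one_le_pow _ _ hp.pos
    have h3 : ((p ^ (b * d) - 1 : ℕ) : ZMod r) = 0 := (ZMod.natCast_eq_zero_iff _ _).2 hdvd
    rw [Nat.cast_sub h2, Nat.cast_pow, Nat.cast_one, sub_eq_zero] at h3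
    exact h3
  have h2 : a * (b * d / g) = b * d * (a / g) := by
    obtain ⟨x, hx⟩ : g ∣ a := Nat.gcd_dvd_left _ _
    obtain ⟨y, hy⟩ : g ∣ b * d := Nat.gcd_dvd_right _ _
    have e1 : b * d / g = y := by rw [hy, Nat.mul_div_cancel_left _ hg0]
    have e2 : a / g = x := by rw [hx, Nat.mul_div_cancel_left _ hg0]
    rw [e1, e2, hy]
    conv_lhs => rw [hx]
    ring
  have h3 : ((p ^ a : ℕ) : ZMod r) ^ (b * d / g) = 1 := by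
    rw [Nat.cast_pow, ← pow_mul, h2, pow_mul, h1, one_pow]
  have h4 := (h.pow_eq_one_iff hr hrm _).1 h3
  have h5 : 0 < b * d / g := Nat.div_pos (Nat.le_of_dvd hbd (Nat.gcd_dvd_right _ _)) hg0
  exact (Nat.le_of_dvd h5 h4).trans (div_gcd_le hb)

theorem exists_dvd {q r N g c : ℕ} (hr : r.Prime) (hq : ¬ r ∣ q) (L : List ℕ)
    (hc : g * c = q ^ N * (L.map fun e => q ^ e - 1).prod) (hrc : r ∣ c) : ∃ e ∈ L, r ∣ q ^ e - 1 := by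
  have h1 : r ∣ q ^ N * (L.map fun e => q ^ e - 1).prod := by
    rw [← hc]
    exact hrc.mul_left _
  rcases hr.dvd_mul.1 h1 with h2 | h2
  · exact absurd (hr.dvd_of_dvd_pow h2) hq
  · obtain ⟨x, hx, hrx⟩ := (Nat.Prime.prime hr).dvd_prod_iff.1 h2
    obtain ⟨e, he, rfl⟩ := List.mem_map.1 hx
    exact ⟨e, he, hrx⟩

theorem diag_comm {D : ChevalleyDatum} (hD : InList D) {K : Type*} [Field K] {x y : GL D.Idx K}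
    (hx : x ∈ D.diagonalSubgroup K) (hy : y ∈ D.diagonalSubgroup K) : x * y = y * x := by
  obtain ⟨χ, hχ⟩ := HMatDiagAll.mem_torus.1 (HMatDiagAll.diagonalSubgroup_le_torus hD hx)
  obtain ⟨ψ, hψ⟩ := HMatDiagAll.mem_torus.1 (HMatDiagAll.diagonalSubgroup_le_torus hD hy)
  apply Units.ext
  rw [Units.val_mul, Units.val_mul, hχ, hψ, Matrix.diagonal_mul_diagonal, Matrix.diagonal_mul_diagonal]
  congr 1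
  funext i
  exact mul_comm _ _

section rows

variable {n k m : ℕ} {F : Type u} [Field F] [Finite F] {P : Subgroup (GL (Fin n) F)} (h : Row k m P)
  (hg : ∃ r, r.Prime ∧ r ∣ m ∧ r ∣ Nat.card (Soc P)) {p : ℕ} [hp : Fact p.Prime] [hcF : CharP F p]
  {K : Type} [Field K] [Fintype K] [hcK : CharP K p]
include h hg hp hcF hcK

theorem no_chev {D : ChevalleyDatum} {l : ℕ} {M : CoxeterMatrix (Fin l)} (ht : IsType D l M)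
    (hpar : parity D l = true) {c d : ℕ} (hcd : 2 * d ≤ c)
    (hidx : ∀ (_ : Finite M.Group) (J : Set (Fin l)) (i : Fin l), i ∉ J → c ≤ (WJ M.toCoxeterSystem J).index)
    (L : List ℕ) (hL : ∀ e ∈ L, 0 < e ∧ e ≤ d) {g N : ℕ}
    (hcard : g * Nat.card ↥(D.group K) = Fintype.card K ^ N * (L.map fun e => Fintype.card K ^ e - 1).prod)
    (e : Soc P ≃* ↥(D.group K)) : False := by
  obtain ⟨r, hr, hrm, hrd⟩ := hg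
  have := Fintype.ofFinite F
  obtain ⟨a, -, hF⟩ := FiniteField.card F p
  obtain ⟨b, -, hK⟩ := FiniteField.card K p
  have hF' : Nat.card F = p ^ (a : ℕ) := by rw [Nat.card_eq_fintype_card, hF]
  have hnum : Num (p ^ (a : ℕ)) n k m := by rw [← hF']; exact h.num
  have hrp : ¬ r ∣ Fintype.card K := by
    intro h0
    rw [hK] at h0
    have h1 := hr.dvd_of_dvd_pow h0
    exact hnum.not_dvd_q hr hrm (h1.trans (dvd_pow_self _ a.ne_zero))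
  rw [Nat.card_congr e.toEquiv] at hrd
  obtain ⟨x, hx, hrx⟩ := exists_dvd hr hrp L hcard hrd
  rw [hK, ← pow_mul] at hrx
  obtain ⟨hx0, hxd⟩ := hL x hx
  have h1 := k_le hnum hr hrm hp.out b.pos hx0 hrx
  have : Finite M.Group := Cfsg.Agent.Nodes.RGDChev.finite_W ht M.toCoxeterSystem
  obtain ⟨J, ⟨i, hi⟩, h2, -⟩ := exists_J h.core (Cfsg.Agent.Nodes.RGDChev.rgd (K := K) ht M.toCoxeterSystem p)
    (Cfsg.Agent.Nodes.RGDChev.G1_eq_top ht M.toCoxeterSystem)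
    (fun s hs t ht' => Subtype.ext (diag_comm ht.inList hs ht')) (E := fun _ => K) (nd ht hpar K) e hF'
    (f := fun _ => (b : ℕ)) (fun _ => hK)
  have h3 := h2 i hi
  rw [Fintype.card_fin] at h3
  have h4 := hidx this J i hi
  have h5 : 1 ≤ (b : ℕ) / Nat.gcd a b :=
    Nat.div_pos (Nat.le_of_dvd b.pos (Nat.gcd_dvd_right _ _)) (Nat.gcd_pos_of_pos_right _ b.pos)
  have h6 := two_mul_le_two_pow h5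
  set j := (b : ℕ) / Nat.gcd a b
  have h7 : k ≤ d * j := h1.trans (Nat.mul_le_mul_right _ hxd)
  have h8 := h.num.nlt
  have h9 : 4 * (d * j) ≤ 2 * n := by
    calc 4 * (d * j) = (2 * d) * (2 * j) := by ring
      _ ≤ c * 2 ^ j := Nat.mul_le_mul hcd h6
      _ ≤ _ := Nat.mul_le_mul_right _ h4
      _ ≤ 2 * n := h3
  omega

theorem not_f4 (e : Soc P ≃* ↥(Cfsg.Lie.chevF4.group K)) : False := by
  refine no_chev h hg (p := p) isType_F4 parity_F4 (c := 24) (d := 12) (by norm_num)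
    (fun _ J i hi => index_F4 _ hi) [2, 6, 8, 12] (by decide) (g := 1) (N := 24) ?_ e
  rw [one_mul, S1062.result rfl]
  simp only [List.map_cons, List.map_nil, List.prod_cons, List.prod_nil, mul_one, mul_assoc]

theorem not_e6 (e : Soc P ≃* ↥(Cfsg.Lie.chevE6.group K)) : False := by
  refine no_chev h hg (p := p) isType_E6 parity_E6 (c := 24) (d := 12) (by norm_num)
    (fun _ J i hi => index_E6 _ hi) [2, 5, 6, 8, 9, 12] (by decide) (g := Nat.gcd 3 (Fintype.card K - 1)) (N := 36) ?_ e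
  rw [S1063.result rfl]
  simp only [List.map_cons, List.map_nil, List.prod_cons, List.prod_nil, mul_one, mul_assoc]

theorem not_e7 (e : Soc P ≃* ↥(Cfsg.Lie.chevE7.group K)) : False := by
  refine no_chev h hg (p := p) isType_E7 parity_E7 (c := 36) (d := 18) (by norm_num)
    (fun _ J i hi => index_E7 _ hi) [2, 6, 8, 10, 12, 14, 18] (by decide)
    (g := Nat.gcd 2 (Fintype.card K - 1)) (N := 63) ?_ e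
  rw [S1064.result rfl]
  simp only [List.map_cons, List.map_nil, List.prod_cons, List.prod_nil, mul_one, mul_assoc]

theorem not_e8 (e : Soc P ≃* ↥(Cfsg.Lie.chevE8.group K)) : False := by
  refine no_chev h hg (p := p) isType_E8 parity_E8 (c := 60) (d := 30) (by norm_num)
    (fun _ J i hi => index_E8 _ hi) [2, 8, 12, 14, 18, 20, 24, 30] (by decide) (g := 1) (N := 120) ?_ e
  rw [one_mul, S1065.result rfl]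
  simp only [List.map_cons, List.map_nil, List.prod_cons, List.prod_nil, mul_one, mul_assoc]

theorem not_2e6 {q₀ : ℕ} (hq : IsPrimePow q₀) (hK : Fintype.card K = q₀ ^ 2)
    (e : Soc P ≃* ↥(Cfsg.Lie.twistedE6 K q₀)) : False := by
  classical
  obtain ⟨r, hr, hrm, hrd⟩ := hg
  have := Fintype.ofFinite F
  obtain ⟨a, -, hF⟩ := FiniteField.card F p
  obtain ⟨b', -, hK'⟩ := FiniteField.card K p
  have hF' : Nat.card F = p ^ (a : ℕ) := by rw [Nat.card_eq_fintype_card, hF]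
  have hnum : Num (p ^ (a : ℕ)) n k m := by rw [← hF']; exact h.num
  -- `q₀ = p ^ b`
  obtain ⟨b, hb, hqb⟩ : ∃ b, 0 < b ∧ q₀ = p ^ b := by
    obtain ⟨s, c, hs, hc, rfl⟩ := (isPrimePow_nat_iff _).1 hq
    have h1 : s = p := by
      have h2 : s ∣ p ^ (b' : ℕ) := by
        rw [← hK', hK]
        exact dvd_pow (dvd_pow_self s hc.ne') (by norm_num)
      exact (Nat.prime_dvd_prime_iff_eq hs hp.out).1 (hs.dvd_of_dvd_pow h2)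
    exact ⟨c, hc, by rw [h1]⟩
  have hq1 := hq.one_lt
  have hrp : ¬ r ∣ q₀ := by
    intro h0
    rw [hqb] at h0
    have h1 := hr.dvd_of_dvd_pow h0
    exact hnum.not_dvd_q hr hrm (h1.trans (dvd_pow_self _ a.ne_zero))
  rw [Nat.card_congr e.toEquiv] at hrd
  -- the degree
  have hdeg : ∃ x, 0 < x ∧ x ≤ 9 ∧ r ∣ q₀ ^ (2 * x) - 1 := by
    have h1 : r ∣ q₀ ^ 36 * (q₀ ^ 2 - 1) * (q₀ ^ 5 + 1) * (q₀ ^ 6 - 1) * (q₀ ^ 8 - 1) * (q₀ ^ 9 + 1) *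
        (q₀ ^ 12 - 1) := by
      rw [← S1066.result hq hK]
      exact hrd.mul_left _
    have key : ∀ x : ℕ, q₀ ^ x + 1 ∣ q₀ ^ (2 * x) - 1 := by
      intro x
      have h2 : q₀ ^ (2 * x) - 1 = (q₀ ^ x + 1) * (q₀ ^ x - 1) := by
        rw [two_mul, pow_add]
        obtain ⟨y, hy⟩ : ∃ y, q₀ ^ x = y + 1 := ⟨q₀ ^ x - 1, (Nat.sub_add_cancel (Nat.one_le_pow _ _ (by omega))).symm⟩
        rw [hy, Nat.add_sub_cancel]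
        apply Nat.sub_eq_of_eq_add
        ring
      rw [h2]
      exact Dvd.intro _ rfl
    rcases hr.dvd_mul.1 h1 with h1 | h2
    · rcases hr.dvd_mul.1 h1 with h1 | h2
      · rcases hr.dvd_mul.1 h1 with h1 | h2
        · rcases hr.dvd_mul.1 h1 with h1 | h2
          · rcases hr.dvd_mul.1 h1 with h1 | h2
            · rcases hr.dvd_mul.1 h1 with h1 | h2
              · exact absurd (hr.dvd_of_dvd_pow h1) hrp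
              · exact ⟨1, by norm_num, by norm_num, h2⟩
            · exact ⟨5, by norm_num, by norm_num, h2.trans (key 5)⟩
          · exact ⟨3, by norm_num, by norm_num, h2⟩
        · exact ⟨4, by norm_num, by norm_num, h2⟩
      · exact ⟨9, by norm_num, by norm_num, h2.trans (key 9)⟩
    · exact ⟨6, by norm_num, by norm_num, h2⟩
  obtain ⟨x, hx0, hx9, hrx⟩ := hdeg
  rw [hqb, ← pow_mul, ← mul_assoc] at hrx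
  have hb2 : 0 < b * 2 := by omega
  have h1 := k_le hnum hr hrm hp.out hb2 hx0 hrx
  -- the data
  obtain ⟨φ, hφ, hqq⟩ := TwE6Basic.exists_frob hq hK
  let _ : ∀ i : Fin 4, Fintype (Cfsg.Agent.Nodes.RGDFoldSL.Fx φ ((Nodes.RGDTwNode.E6.rest i).length + 1)) :=
    fun i => Fintype.ofFinite _
  have hch : ∀ i : Fin 4, CharP (Cfsg.Agent.Nodes.RGDFoldSL.Fx φ ((Nodes.RGDTwNode.E6.rest i).length + 1)) p :=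
    fun i => (RingHom.charP_iff (Cfsg.Agent.Nodes.RGDFoldSL.Fx φ _).subtype
      (Cfsg.Agent.Nodes.RGDFoldSL.Fx φ _).subtype_injective p).2 inferInstance
  have hN := fun i : Fin 4 =>
    Cfsg.Agent.H59.CrossTw.nd_fold (Nodes.RGDTwE6.foldGrp hφ hqq) (Nodes.RGDTwNode.E6.nodeOK i) (φ := φ)
      (fun s hs t => by rw [Nodes.RGDTwNode.E6.eps_one i s hs, Int.cast_one, one_mul])
      (Cfsg.Agent.KFacts.MulOdd.InstTw.parityTw_spec Cfsg.Agent.KFacts.MulOdd.InstTw.parity_E6 i).choose_spec.1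
      (Cfsg.Agent.KFacts.MulOdd.InstTw.parityTw_spec Cfsg.Agent.KFacts.MulOdd.InstTw.parity_E6 i).choose_spec.2
  have hW : Finite CoxeterMatrix.F₄.Group :=
    Cfsg.Agent.Nodes.RGDFold.finite_W (hp := isType_E6) CoxeterMatrix.F₄.toCoxeterSystem Nodes.RGDTwE6.isCartan
      Nodes.RGDTwE6.foldData
  have hcard : ∀ i : Fin 4, Fintype.card (Cfsg.Agent.Nodes.RGDFoldSL.Fx φ ((Nodes.RGDTwNode.E6.rest i).length + 1)) =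
      p ^ (![b, b, b * 2, b * 2] i) := by
    have e1 : Nat.card (Cfsg.Agent.Nodes.RGDFoldSL.Fx φ 1) = q₀ := by
      have h2 := Cfsg.Agent.H59.CrossTw.card_Fx_one hq1 hK hφ
      have h3 : 0 < Nat.card (Cfsg.Agent.Nodes.RGDFoldSL.Fx φ 1) := Nat.card_pos
      omega
    have e2 := Cfsg.Agent.H59.CrossTw.card_Fx_eq hK hφ
    intro i
    rw [← Nat.card_eq_fintype_card]
    fin_cases i
    · exact e1.trans hqb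
    · exact e1.trans hqb
    · refine e2.trans ?_
      rw [hqb, ← pow_mul]
      rfl
    · refine e2.trans ?_
      rw [hqb, ← pow_mul]
      rfl
  obtain ⟨J, ⟨i, hi⟩, h2, h3⟩ := exists_J h.core
    (Nodes.RGDFold.rgd CoxeterMatrix.F₄.toCoxeterSystem Nodes.RGDTwE6.isCartan Nodes.RGDTwE6.foldData
      (Nodes.RGDTwE6.foldGrp hφ hqq) p)
    (Nodes.RGDFold.G1_eq_top CoxeterMatrix.F₄.toCoxeterSystem Nodes.RGDTwE6.isCartan Nodes.RGDTwE6.foldData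
      (Nodes.RGDTwE6.foldGrp hφ hqq) p)
    (fun s hs t ht' => Subtype.ext (diag_comm isType_E6.inList (Subgroup.mem_subgroupOf.1 hs).1
      (Subgroup.mem_subgroupOf.1 ht').1)) hN e hF' hcard
  rw [Fintype.card_fin] at h2 h3
  have h8 := h.num.nlt
  -- `e_S` and `e_L`
  have hS : 1 ≤ b * 2 / Nat.gcd a (b * 2) :=
    Nat.div_pos (Nat.le_of_dvd hb2 (Nat.gcd_dvd_right _ _)) (Nat.gcd_pos_of_pos_right _ hb2)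
  have hL : 1 ≤ b / Nat.gcd a b :=
    Nat.div_pos (Nat.le_of_dvd hb (Nat.gcd_dvd_right _ _)) (Nat.gcd_pos_of_pos_right _ hb)
  have hSL : b * 2 / Nat.gcd a (b * 2) ≤ 2 * (b / Nat.gcd a b) := div_gcd_le hb
  have g2 := h2 2
  have g3 := h2 3
  have g1 := h2 1
  change 2 ∉ J → _ * 2 ^ (b * 2 / Nat.gcd a (b * 2)) ≤ _ at g2
  change 3 ∉ J → _ * 2 ^ (b * 2 / Nat.gcd a (b * 2)) ≤ _ at g3
  change 1 ∉ J → _ * 2 ^ (b / Nat.gcd a b) ≤ _ at g1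
  have g0 := fun h0 : (0 : Fin 4) ∉ J => fun hJ => h3 0 h0 hJ 3 (LF.filter fun v => decide (0 < v 3))
    (LF.filter fun v => decide (v 3 = 0))
  change ∀ h0 : (0 : Fin 4) ∉ J, _ → _ → _ → _ → _ → _ → _ →
    _ * 2 ^ (b * 2 / Nat.gcd a (b * 2)) + _ ≤ _ at g0
  set S := b * 2 / Nat.gcd a (b * 2) with hSdef
  set T := b / Nat.gcd a b with hTdef
  have h7 : k ≤ 9 * S := h1.trans (Nat.mul_le_mul_right _ hx9)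
  have hSp := two_mul_le_two_pow hS
  have hTp := two_mul_le_two_pow hL
  by_cases h20 : (2 : Fin 4) ∈ J
  swap
  · have h9 := g2 h20
    have h10 := Nat.mul_le_mul (index_F4 CoxeterMatrix.F₄.toCoxeterSystem h20) hSp
    omega
  by_cases h30 : (3 : Fin 4) ∈ J
  swap
  · have h9 := g3 h30
    have h10 := Nat.mul_le_mul (index_F4 CoxeterMatrix.F₄.toCoxeterSystem h30) hSp
    omega
  by_cases h10 : (1 : Fin 4) ∈ J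
  swap
  · have h9 := g1 h10
    have h10 := Nat.mul_le_mul (index_F4' CoxeterMatrix.F₄.toCoxeterSystem h10) hTp
    omega
  have h00 : (0 : Fin 4) ∉ J := by
    intro h0
    apply hi
    fin_cases i
    · exact h0
    · exact h10
    · exact h20
    · exact h30
  obtain ⟨o1, o2⟩ := exists_of_chn CoxeterMatrix.F₄.toCoxeterSystem Nodes.RGDTwE6.isCartan chn_LF
  have h9 := g0 h00 (by
      intro i hi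
      fin_cases i
      · rfl
      · exact absurd h10 hi
      · exact absurd h20 hi
      · exact absurd h30 hi)
    (fun v hv => of_decide_eq_true (List.mem_filter.1 hv).2)
    (fun v hv => of_decide_eq_true (List.mem_filter.1 hv).2)
    (o2.filter _) (o2.filter _) (fun v hv => o1 v (List.mem_filter.1 hv).1) (fun v hv => o1 v (List.mem_filter.1 hv).1)
  rw [LF_pos, LF_zero] at h9
  -- `6 * 2 ^ S + 12 ≥ 18 S`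
  have h11 : 18 * S ≤ 6 * 2 ^ S + 12 := by
    rcases Nat.lt_or_ge S 2 with h12 | h12
    · have h13 : S = 1 := by omega
      rw [h13]
      norm_num
    · have h14 := three_mul_le h12
      omega
  omega

end rows

end Cfsg.Agent.H2.Ppd
end
end
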